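import Cfsg.Agent.H36.GUTwo.Iso
import Cfsg.Agent.H84.WR.TableBridge
import Cfsg.Agent.H68.UThree.Bridge

/-!
# A simple group with involution centraliser `GU₂(q)/Z`: the two facts of the engine
-/

set_option autoImplicit false
set_option linter.unusedSectionVars false
set_option linter.style.haveILetI false

namespace Cfsg.Agent.H36.GUTwo

open Subgroup Cfsg Cfsg.Agent.H36.TwoTori Cfsg.Agent.H3.SDOrder
open scoped Classical

universe u v

/-- The facts wanted from the engine. -/
def Facts (q : ℕ) {G : Type u} [Group G] [Fintype G] (t : G) : Prop :=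
  (centralizer ({t} : Set G)).index = q ^ 2 * (q ^ 2 - q + 1) ∧
    ∀ (i : G) (K : Subgroup G), i ∈ centralizer ({t} : Set G) → orderOf i = 2 → i ≠ t →
      (∀ g ∈ centralizer ({t} : Set G),
        (∀ h ∈ centralizer ({t} : Set G), g * h = h * g) → g ∈ K) →
      H68.UThree.PhiLift q t K (centralizer ({t} : Set G) ⊓ centralizer ({i} : Set G))

/-- The index as a natural number. -/
theorem index_nat {q : ℕ} (hq : 1 ≤ q) {n : ℕ}
    (h : (n : ℤ) = (-(q : ℤ)) ^ 2 * ((-(q : ℤ)) ^ 2 + -(q : ℤ) + 1)) :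
    n = q ^ 2 * (q ^ 2 - q + 1) := by
  have h1 : q ≤ q ^ 2 := by nlinarith
  zify [h1]
  rw [h]
  ring

/-- The covering datum of the centraliser. -/
theorem exists_cov {G : Type u} [Group G] [Finite G] [IsSimpleGroup G] {K : Type v} [Field K]
    [Fintype K] (q : ℕ) (hq : Odd q) (hK : Fintype.card K = q ^ 2)
    (Z : Subgroup (Cfsg.GU 2 K q)) [Z.Normal] (hZc : Z ≤ Subgroup.center (Cfsg.GU 2 K q))
    (hZo : Odd (Nat.card Z)) (t : G) (ht : orderOf t = 2)
    (e : centralizer ({t} : Set G) ≃* Cfsg.GU 2 K q ⧸ Z) :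
    ∃ (H A B : Type v) (_ : Group H) (_ : Fintype H) (_ : CommGroup A) (_ : Fintype A)
      (_ : CommGroup B) (_ : Fintype B) (D : Table H A B (-(q : ℤ))), Nonempty (H84.WR.Cov D G t) := by
  obtain ⟨F, iF, iT, iD, δ, hδ, hF, ⟨C⟩⟩ := exists_cover hK hq
  haveI : Fintype (Quad δ)ˣ := Fintype.ofFinite _
  haveI : Fintype (NOne hδ) := Fintype.ofFinite _
  haveI : Fintype (Cfsg.GU 2 K q) := Fintype.ofFinite _
  let D : Table (Cfsg.GU 2 K q) (NOne hδ) (Quad δ)ˣ (-(Fintype.card F : ℤ)) := guTable C
  let S : H84.WR.Cov D G t :=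
    { ι := (centralizer ({t} : Set G)).subtype.comp (e.symm.toMonoidHom.comp (QuotientGroup.mk' Z))
      det := C.det
      det_T := C.det_T
      simple := inferInstance
      invol := ht
      range_iff := fun g => by
        constructor
        · rintro ⟨x, rfl⟩
          exact mem_centralizer_singleton_iff.1 (e.symm (QuotientGroup.mk' Z x)).2
        · intro hg
          obtain ⟨x, hx⟩ := QuotientGroup.mk'_surjective Z (e ⟨g, mem_centralizer_singleton_iff.2 hg.eq⟩)
          exact ⟨x, by simp only [MonoidHom.comp_apply, hx]; simp⟩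
      ker_center := by
        rw [MonoidHom.ker_comp_of_injective _ _ Subtype.val_injective,
          MonoidHom.ker_comp_of_injective _ _ e.symm.injective, QuotientGroup.ker_mk']
        exact hZc
      ker_odd := by
        rw [MonoidHom.ker_comp_of_injective _ _ Subtype.val_injective,
          MonoidHom.ker_comp_of_injective _ _ e.symm.injective, QuotientGroup.ker_mk']
        exact hZo }
  subst hF
  exact ⟨_, _, _, _, _, _, _, _, _, D, ⟨S⟩⟩

/-- The facts, `q ≡ 3 (4)`. -/
theorem facts_three {G : Type u} [Group G] [Fintype G] {H A B : Type v} [Group H] [Fintype H]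
    [CommGroup A] [Fintype A] [CommGroup B] [Fintype B] {q : ℕ} {t : G}
    {D : Table H A B (-(q : ℤ))} (S : H84.WR.Cov D G t) (hq : q % 4 = 3) : Facts q t := by
  have h4 : -(q : ℤ) % 4 = 1 := by omega
  refine ⟨index_nat (by omega) (S.index_formula h4), fun i K hi hi2 hne hK => ?_⟩
  exact S.phiLift h4 rfl hi2 (mem_centralizer_singleton_iff.1 hi) hne rfl hK

end Cfsg.Agent.H36.GUTwo
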