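import Cfsg.Agent.H36.TwoTori.GL
import Mathlib.GroupTheory.FiniteAbelian.Duality

/-!
# The group covering `GU₂(q)`

`Gam = {(l, g) ∈ K* × GL₂(q) : N l * det g = 1}` with `K = F(√δ)`; the unitary group is its quotient by
`deltaHom = {(a⁻¹, a)}`.
-/

set_option autoImplicit false
set_option linter.unusedSectionVars false
set_option linter.style.haveILetI false

namespace Cfsg.Agent.H36.GUTwo

open Matrix Finset Cfsg.Agent.H53 Cfsg.Agent.H3.SDOrder Cfsg.Agent.H36.TwoTori

universe v

variable {F : Type v} [Field F] {δ : F} (hδ : ¬ IsSquare δ)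

local notation "G2" => Matrix.GeneralLinearGroup (Fin 2) F
local notation "M2" => Matrix (Fin 2) (Fin 2) F
local notation "Kx" => (Quad δ)ˣ

theorem normHom_scal (a : Fˣ) : normHom hδ (scalUnit a) = a * a := by
  refine Units.ext ?_
  simp [normHom_val, re_scalUnit, im_scalUnit]

theorem scal_norm (z : Kx) : scalUnit (normHom hδ z) = z * conjUnit z := by
  refine Units.ext (QuadraticAlgebra.ext ?_ ?_) <;>
    simp [re_scalUnit, im_scalUnit, re_conjUnit, im_conjUnit, normHom_val] <;> ring

theorem normHom_conj (z : Kx) : normHom hδ (conjUnit z) = normHom hδ z := by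
  refine Units.ext ?_
  simp [normHom_val, re_conjUnit, im_conjUnit]

theorem conj_conj (z : Kx) : conjUnit (conjUnit z) = z := by
  refine Units.ext (QuadraticAlgebra.ext ?_ ?_) <;> simp [re_conjUnit, im_conjUnit]

theorem conj_scal (a : Fˣ) : conjUnit (scalUnit a : Kx) = scalUnit a := by
  refine Units.ext (QuadraticAlgebra.ext ?_ ?_) <;>
    simp [re_conjUnit, im_conjUnit, re_scalUnit, im_scalUnit]

/-- The group of norm one. -/
noncomputable abbrev NOne : Subgroup Kx := (normHom hδ).ker

theorem norm_one (a : NOne hδ) : normHom hδ (a : Kx) = 1 := a.2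

theorem conj_nOne (a : NOne hδ) : conjUnit (a : Kx) = (a : Kx)⁻¹ := by
  refine eq_inv_of_mul_eq_one_right ?_
  rw [← scal_norm hδ, norm_one hδ a, map_one]

/-- `z ↦ z / z̄`. -/
noncomputable def normA : Kx →* NOne hδ :=
  (MonoidHom.id Kx / conjUnit).codRestrict _ fun z => by
    rw [MonoidHom.mem_ker, MonoidHom.div_apply, map_div, normHom_conj, MonoidHom.id_apply, div_self']

theorem coe_normA (z : Kx) : (normA hδ z : Kx) = z / conjUnit z := rfl

theorem normA_coe (a : NOne hδ) : normA hδ (a : Kx) = a * a := by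
  refine Subtype.ext ?_
  rw [coe_normA, conj_nOne hδ, div_inv_eq_mul, Subgroup.coe_mul]

/-- The defining relation. -/
noncomputable def relHom : Kx × G2 →* Fˣ :=
  (normHom hδ).comp (MonoidHom.fst _ _) *
    Matrix.GeneralLinearGroup.det.comp (MonoidHom.snd _ _)

/-- The group. -/
noncomputable abbrev Gam : Subgroup (Kx × G2) := (relHom hδ).ker

theorem mem_Gam {l : Kx} {g : G2} :
    (l, g) ∈ Gam hδ ↔ normHom hδ l * Matrix.GeneralLinearGroup.det g = 1 := Iff.rfl

theorem det_scalarGL (a : Fˣ) : Matrix.GeneralLinearGroup.det (scalarGL a : G2) = a * a := by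
  refine Units.ext ?_
  simp [Matrix.GeneralLinearGroup.val_det_apply, coe_scalarGL, Matrix.det_fin_two_of]

theorem det_splitHom (a b : Fˣ) :
    Matrix.GeneralLinearGroup.det (splitHom (a, b) : G2) = a * b := by
  refine Units.ext ?_
  simp [Matrix.GeneralLinearGroup.val_det_apply, coe_splitHom, Matrix.det_fin_two_of]

theorem det_torusHom (z : Kx) :
    Matrix.GeneralLinearGroup.det (torusHom hδ z) = normHom hδ z := rfl

theorem det_uGL : Matrix.GeneralLinearGroup.det (uGL : G2) = 1 := by
  refine Units.ext ?_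
  simp [Matrix.GeneralLinearGroup.val_det_apply, uGL, coe_upGL, Matrix.det_fin_two_of]

/-- The kernel of the map onto the unitary group. -/
noncomputable def deltaHom : Fˣ →* Gam hδ :=
  (((scalUnit : Fˣ →* Kx).comp invMonoidHom).prod (scalarHom : Fˣ →* G2)).codRestrict _ fun a => by
    show normHom hδ (scalUnit a⁻¹) * Matrix.GeneralLinearGroup.det (scalarGL a) = 1
    rw [normHom_scal, det_scalarGL, ← mul_inv, inv_mul_cancel]

theorem coe_deltaHom (a : Fˣ) :
    (deltaHom hδ a : Kx × G2) = (scalUnit a⁻¹, scalarGL a) := rfl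

/-- The pairs of the anisotropic torus. -/
noncomputable abbrev Dom : Subgroup (Kx × Kx) :=
  ((TwoTori.normHom hδ).comp (MonoidHom.fst Kx Kx) *
    (TwoTori.normHom hδ).comp (MonoidHom.snd Kx Kx)).ker

theorem mem_Dom {l z : Kx} : (l, z) ∈ Dom hδ ↔ normHom hδ l * normHom hδ z = 1 := Iff.rfl

theorem dom_rel (x : Dom hδ) : normHom hδ (x : Kx × Kx).1 * normHom hδ (x : Kx × Kx).2 = 1 := x.2

/-- The two eigenvalues. -/
noncomputable def eig : Dom hδ →* NOne hδ × NOne hδ where
  toFun x := (⟨(x : Kx × Kx).1 * (x : Kx × Kx).2, by rw [MonoidHom.mem_ker, map_mul]; exact x.2⟩,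
    ⟨(x : Kx × Kx).1 * conjUnit (x : Kx × Kx).2, by
      rw [MonoidHom.mem_ker, map_mul, normHom_conj]; exact x.2⟩)
  map_one' := by ext <;> simp
  map_mul' x y := by ext <;> simp <;> ring

theorem eig_fst (x : Dom hδ) : ((eig hδ x).1 : Kx) = (x : Kx × Kx).1 * (x : Kx × Kx).2 := rfl

theorem eig_snd (x : Dom hδ) :
    ((eig hδ x).2 : Kx) = (x : Kx × Kx).1 * conjUnit (x : Kx × Kx).2 := rfl

/-- The anisotropic torus upstairs. -/
noncomputable def domHom : Dom hδ →* Gam hδ :=
  (((MonoidHom.fst Kx Kx).comp (Dom hδ).subtype).prod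
    ((torusHom hδ).comp ((MonoidHom.snd Kx Kx).comp (Dom hδ).subtype))).codRestrict _ fun x => x.2

theorem coe_domHom (x : Dom hδ) :
    (domHom hδ x : Kx × G2) = ((x : Kx × Kx).1, torusHom hδ (x : Kx × Kx).2) := rfl

variable [Fintype F] [DecidableEq F]

theorem deltaHom_injective : Function.Injective (deltaHom hδ) := fun a b h => by
  have := congrArg (fun x : Gam hδ => (x : Kx × G2).1) h
  simp only [coe_deltaHom] at this
  exact inv_injective (scalUnit_injective this)

theorem card_nOne : Nat.card (NOne hδ) = Fintype.card F + 1 := by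
  haveI := isCyclic_quad hδ
  have e : NOne hδ = (powMonoidHom (Fintype.card F + 1) : Kx →* Kx).ker := by
    ext z
    rw [MonoidHom.mem_ker, MonoidHom.mem_ker, powMonoidHom_apply, pow_succ,
      ← conjUnit_eq_pow hδ, mul_comm, ← scal_norm hδ,
      map_eq_one_iff _ (scalUnit_injective (δ := δ))]
  rw [e, IsCyclic.card_powMonoidHom_ker, card_quad hδ]
  refine Nat.gcd_eq_right ⟨Fintype.card F - 1, ?_⟩
  simpa using Nat.sq_sub_sq (Fintype.card F) 1

theorem normHom_surjective : Function.Surjective (normHom hδ) := by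
  rw [← MonoidHom.range_eq_top]
  refine Subgroup.eq_top_of_card_eq _ ?_
  have h := (NOne hδ).card_mul_index
  rw [Subgroup.index_ker, card_nOne hδ, card_quad hδ] at h
  rw [Nat.card_eq_fintype_card (α := Fˣ), Fintype.card_units]
  refine Nat.eq_of_mul_eq_mul_left (show 0 < Fintype.card F + 1 by omega) (h.trans ?_)
  simpa using Nat.sq_sub_sq (Fintype.card F) 1

theorem normA_ker : (normA hδ).ker = (scalUnit : Fˣ →* Kx).range := by
  ext z
  rw [MonoidHom.mem_ker, Subtype.ext_iff, coe_normA, Subgroup.coe_one, div_eq_one]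
  constructor
  · intro h
    refine (mem_range_scal hδ).2 ?_
    have := congrArg (fun w : Kx => (w : Quad δ).im) h
    simp [im_conjUnit] at this
    exact (mul_eq_zero.1 (show (2 : F) * (z : Quad δ).im = 0 by
      linear_combination this)).resolve_left (two_ne hδ)
  · rintro ⟨a, rfl⟩
    exact (conj_scal a).symm

theorem normA_surjective : Function.Surjective (normA hδ) := by
  rw [← MonoidHom.range_eq_top]
  refine Subgroup.eq_top_of_card_eq _ ?_
  have h := (normA hδ).ker.card_mul_index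
  rw [Subgroup.index_ker, normA_ker hδ,
    ← Nat.card_congr (MonoidHom.ofInjective (scalUnit_injective (δ := δ))).toEquiv, card_quad hδ,
    Nat.card_eq_fintype_card (α := Fˣ), Fintype.card_units] at h
  rw [card_nOne hδ]
  refine Nat.eq_of_mul_eq_mul_left
    (show 0 < Fintype.card F - 1 by have := Fintype.one_lt_card (α := F); omega) (h.trans ?_)
  rw [show Fintype.card F ^ 2 - 1 = (Fintype.card F + 1) * (Fintype.card F - 1) by
    simpa using Nat.sq_sub_sq (Fintype.card F) 1, mul_comm]

theorem eig_surjective : Function.Surjective (eig hδ) := by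
  rintro ⟨e₁, e₂⟩
  obtain ⟨z, hz⟩ := normA_surjective hδ (e₁ * e₂⁻¹)
  have hz' := congrArg Subtype.val hz
  rw [coe_normA, Subgroup.coe_mul, Subgroup.coe_inv] at hz'
  have hmem : ((e₁ : Kx) / z, z) ∈ Dom hδ := by
    rw [mem_Dom, map_div, norm_one hδ e₁, one_div, inv_mul_cancel]
  refine ⟨⟨_, hmem⟩, Prod.ext (Subtype.ext ?_) (Subtype.ext ?_)⟩
  · rw [eig_fst]; exact div_mul_cancel _ _
  · rw [eig_snd]
    show (e₁ : Kx) / z * conjUnit z = (e₂ : Kx)
    rw [show (e₁ : Kx) / z * conjUnit z = (e₁ : Kx) / (z / conjUnit z) by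
      rw [div_div_eq_mul_div, div_mul_eq_mul_div], hz']
    simp

theorem eig_ker {x : Dom hδ} (h : eig hδ x = 1) : ∃ a, domHom hδ x = deltaHom hδ a := by
  obtain ⟨⟨l, z⟩, hx⟩ := x
  have h1 : l * z = 1 := congrArg (fun p : NOne hδ × NOne hδ => (p.1 : Kx)) h
  have h2 : l * conjUnit z = 1 := congrArg (fun p : NOne hδ × NOne hδ => (p.2 : Kx)) h
  have hz : z ∈ (normA hδ).ker := by
    rw [MonoidHom.mem_ker, Subtype.ext_iff, coe_normA, Subgroup.coe_one, div_eq_one]
    exact mul_left_cancel (h1.trans h2.symm)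
  rw [normA_ker] at hz
  obtain ⟨a, rfl⟩ := hz
  refine ⟨a, Subtype.ext (Prod.ext ?_ ?_)⟩
  · show l = scalUnit a⁻¹
    rw [map_inv, eq_inv_of_mul_eq_one_left h1]
  · exact torusHom_scalUnit hδ a

end Cfsg.Agent.H36.GUTwo
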