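import Cfsg.Agent.H36.GUTwo.Chars

/-!
# The principal block of a group covered by `Gam`
-/

set_option autoImplicit false
set_option linter.unusedSectionVars false
set_option linter.style.haveILetI false

namespace Cfsg.Agent.H36.GUTwo

open Matrix Finset Cfsg.Agent.H53 Cfsg.Agent.H3.SDOrder Cfsg.Agent.H36.TwoTori
open scoped Classical ComplexConjugate

universe v

variable {F : Type v} [Field F] [Fintype F] [DecidableEq F] [DecidableEq (MulChar F ℂ)] {δ : F}
  {hδ : ¬ IsSquare δ} [Fintype (Quad δ)ˣ]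

local notation "G2" => Matrix.GeneralLinearGroup (Fin 2) F
local notation "M2" => Matrix (Fin 2) (Fin 2) F
local notation "Kx" => (Quad δ)ˣ

theorem oddTriv_normA {α : NOne hδ →* ℂˣ} (h : OddTriv α) : OddTriv (α.comp (normA hδ)) :=
  fun z hz => h _ (hz.of_dvd_nat (orderOf_map_dvd _ z))

theorem oddTriv_mul {C : Type*} [Monoid C] {α β : C →* ℂˣ} (ha : OddTriv α) (hb : OddTriv β) :
    OddTriv (α * β) := fun z hz => by rw [MonoidHom.mul_apply, ha z hz, hb z hz, mul_one]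

theorem oddTriv_inv {C : Type*} [Monoid C] {α : C →* ℂˣ} (ha : OddTriv α) : OddTriv α⁻¹ :=
  fun z hz => by rw [MonoidHom.inv_apply, ha z hz, inv_one]

/-- An extension trivial on the elements of odd order. -/
theorem exists_oddExt {γ : NOne hδ →* ℂˣ} (hγ : OddTriv γ) :
    ∃ θ : Kx →* ℂˣ, OddTriv θ ∧ ∀ a : NOne hδ, θ a = γ a := by
  obtain ⟨n, hn⟩ := exists_odd_exp.{v} (Nat.card Kx) Nat.card_pos.ne'
  refine ⟨extend γ * ((extend γ).comp (powMonoidHom n))⁻¹, fun z hz => ?_, fun a => ?_⟩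
  · rw [MonoidHom.mul_apply, MonoidHom.inv_apply, MonoidHom.comp_apply, powMonoidHom_apply,
      (hn Kx z (orderOf_dvd_natCard z)).2 hz, mul_inv_cancel]
  · have h1 : γ (a ^ n) = 1 := hγ _ <| by
      rw [← Subgroup.orderOf_coe, Subgroup.coe_pow]
      exact (hn Kx (a : Kx) (orderOf_dvd_natCard _)).1
    rw [MonoidHom.mul_apply, MonoidHom.inv_apply, MonoidHom.comp_apply, powMonoidHom_apply,
      ← Subgroup.coe_pow, extend_apply, extend_apply, h1, inv_one, mul_one]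

/-- A character trivial on the scalars factors through `normA`. -/
theorem exists_descend (hδ : ¬ IsSquare δ) {μ : Kx →* ℂˣ} (hμ : ∀ a, μ (scalUnit a) = 1)
    (ho : OddTriv μ) : ∃ α : NOne hδ →* ℂˣ, OddTriv α ∧ μ = α.comp (normA hδ) := by
  have hk : (normA hδ).ker ≤ μ.ker := by
    rw [normA_ker hδ]; rintro _ ⟨a, rfl⟩; exact hμ a
  let α : NOne hδ →* ℂˣ := (normA hδ).liftOfRightInverse _
    (Function.rightInverse_surjInv (normA_surjective hδ)) ⟨μ, hk⟩
  have hα : ∀ z, α (normA hδ z) = μ z := fun z =>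
    MonoidHom.liftOfRightInverse_comp_apply (normA hδ) _ _ ⟨μ, hk⟩ z
  refine ⟨α, fun e he => ?_, MonoidHom.ext fun z => (hα z).symm⟩
  obtain ⟨z, rfl⟩ := normA_surjective hδ e
  obtain ⟨n, hn⟩ := exists_odd_exp.{v} (Nat.card Kx) Nat.card_pos.ne'
  have h2 : normA hδ (z ^ n) = normA hδ z := by
    rw [map_pow]
    refine Subtype.ext ?_
    rw [Subgroup.coe_pow]
    exact (hn Kx _ (orderOf_dvd_natCard _)).2 (by rwa [Subgroup.orderOf_coe])
  rw [← h2, hα]
  exact ho _ (hn Kx z (orderOf_dvd_natCard z)).1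

theorem oddTrivChar_toUnitHom {α : MulChar F ℂ} (h : OddTrivChar α) : OddTriv α.toUnitHom :=
  fun a ha => Units.ext (by rw [MulChar.coe_toUnitHom]; exact h a ha)

theorem ofUnitHom_toUnitHom (α : MulChar F ℂ) : MulChar.ofUnitHom α.toUnitHom = α :=
  MulChar.ext fun a => by simp

theorem stFun_twist (hδ : ¬ IsSquare δ) (α : MulChar F ℂ) : stFun α = fun g : G2 =>
    (α.toUnitHom (Matrix.GeneralLinearGroup.det g) : ℂ) * stFun (1 : MulChar F ℂ) g := by
  refine gl_ext_types hδ (CharBasic.IsIrr.isClassFunction (isIrrCharacter_stFun α)) ?_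
    (fun a => ?_) (fun a => ?_) (fun a b h => ?_) (fun z hz => ?_)
  · intro g x
    dsimp only
    rw [det_conj, CharBasic.IsIrr.isClassFunction (isIrrCharacter_stFun (1 : MulChar F ℂ))]
  · rw [stFun_scalar, stFun_scalar, det_scalarGL]
    simp
    ring
  · rw [stFun, Pi.sub_apply, prin_upper_eq _ _ (by simp [coe_upGL]) (by simp [coe_upGL])
      (by simp [coe_upGL]), stFun_one_upper_eq (by simp [coe_upGL]) (by simp [coe_upGL])
      (by simp [coe_upGL])]
    simp [linFun, coe_upGL, Matrix.det_fin_two, map_mul]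
  · rw [stFun, Pi.sub_apply, prin_diag _ _ (by simp [coe_splitHom]) (by simp [coe_splitHom])
      (by simpa [coe_splitHom, ← Units.ext_iff] using h), det_splitHom,
      stFun_one_upper_ne (by simp [coe_splitHom]) (by simpa [coe_splitHom, ← Units.ext_iff] using h)]
    simp [linFun, coe_splitHom, Matrix.det_fin_two, map_mul]
    ring
  · rw [stFun_torus hz, stFun, Pi.sub_apply, prin_noEigen _ _ (noEigen_torus hδ hz), linFun,
      ← Matrix.GeneralLinearGroup.val_det_apply, MulChar.coe_toUnitHom]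
    ring

theorem prin_twist (hδ : ¬ IsSquare δ) (α β : MulChar F ℂ) : prin α β = fun g : G2 =>
    (β.toUnitHom (Matrix.GeneralLinearGroup.det g) : ℂ) * prin (α * β⁻¹) 1 g := by
  have hβ : ∀ a : Fˣ, β (a : F) * β⁻¹ (a : F) = 1 := fun a => by
    rw [← MulChar.mul_apply, mul_inv_cancel, MulChar.one_apply a.isUnit]
  refine gl_ext_types hδ (isClassFunction_prin α β) ?_
    (fun a => ?_) (fun a => ?_) (fun a b h => ?_) (fun z hz => ?_)
  · intro g x
    dsimp only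
    rw [det_conj, isClassFunction_prin]
  · rw [prin_scalar, prin_scalar, det_scalarGL, MulChar.one_apply a.isUnit]
    simp only [map_mul, Units.val_mul, MulChar.coe_toUnitHom, MulChar.mul_apply, mul_one]
    linear_combination (-(((Fintype.card F : ℂ) + 1) * β (a : F) * α (a : F))) * hβ a
  · rw [prin_upper_eq _ _ (by simp [coe_upGL]) (by simp [coe_upGL]) (by simp [coe_upGL]),
      prin_upper_eq _ _ (by simp [coe_upGL]) (by simp [coe_upGL]) (by simp [coe_upGL]),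
      show Matrix.GeneralLinearGroup.det (upGL a a a : G2) = a * a from Units.ext (by
        simp [Matrix.GeneralLinearGroup.val_det_apply, coe_upGL, Matrix.det_fin_two_of])]
    simp only [coe_upGL, Matrix.of_apply, Matrix.cons_val', Matrix.cons_val_zero,
      Matrix.cons_val_fin_one, map_mul, Units.val_mul, MulChar.coe_toUnitHom,
      MulChar.mul_apply, MulChar.one_apply a.isUnit, mul_one]
    linear_combination (-(β (a : F) * α (a : F))) * hβ a
  · rw [prin_diag _ _ (by simp [coe_splitHom]) (by simp [coe_splitHom])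
      (by simpa [coe_splitHom, ← Units.ext_iff] using h),
      prin_diag _ _ (by simp [coe_splitHom]) (by simp [coe_splitHom])
      (by simpa [coe_splitHom, ← Units.ext_iff] using h), det_splitHom]
    simp only [coe_splitHom, Matrix.of_apply, Matrix.cons_val', Matrix.cons_val_zero,
      Matrix.cons_val_one, Matrix.cons_val_fin_one, map_mul, Units.val_mul, MulChar.coe_toUnitHom,
      MulChar.mul_apply, MulChar.one_apply a.isUnit, MulChar.one_apply b.isUnit, mul_one, one_mul]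
    linear_combination (-(β (b : F) * α (a : F))) * hβ a + (-(β (a : F) * α (b : F))) * hβ b
  · rw [prin_noEigen _ _ (noEigen_torus hδ hz), prin_noEigen _ _ (noEigen_torus hδ hz), mul_zero]

namespace Cover

variable {H : Type v} [Group H] (C : Cover hδ H)

theorem exists_odd_over (g : G2) (ho : Odd (orderOf g)) :
    ∃ x : Gam hδ, (x : Kx × G2).2 = g ∧ Odd (orderOf x) := by
  obtain ⟨l, hl⟩ := exists_lift hδ g
  obtain ⟨n, hn⟩ := exists_odd_exp.{v} (Nat.card (Gam hδ)) Nat.card_pos.ne'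
  set p : Gam hδ →* G2 := (MonoidHom.snd Kx G2).comp (Gam hδ).subtype
  refine ⟨⟨(l, g), hl⟩ ^ n, ?_, (hn _ _ (orderOf_dvd_natCard _)).1⟩
  show p (⟨(l, g), hl⟩ ^ n) = g
  rw [map_pow]
  exact (hn G2 g ((orderOf_map_dvd p ⟨(l, g), hl⟩).trans (orderOf_dvd_natCard _))).2 ho

include C in
theorem exists_odd_lift (h : H) (ho : Odd (orderOf h)) :
    ∃ x : Gam hδ, C.π x = h ∧ Odd (orderOf x) := by
  obtain ⟨y, rfl⟩ := C.surj h
  obtain ⟨n, hn⟩ := exists_odd_exp.{v} (Nat.card (Gam hδ)) Nat.card_pos.ne'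
  refine ⟨y ^ n, ?_, (hn _ _ (orderOf_dvd_natCard _)).1⟩
  rw [map_pow]
  exact (hn H _ ((orderOf_map_dvd C.π y).trans (orderOf_dvd_natCard _))).2 ho

theorem fst_odd {θ : Kx →* ℂˣ} (hθ : OddTriv θ) {x : Gam hδ} (ho : Odd (orderOf x)) :
    (θ (x : Kx × G2).1 : ℂ) = 1 := by
  rw [hθ (x : Kx × G2).1
    (ho.of_dvd_nat (orderOf_map_dvd ((MonoidHom.fst Kx G2).comp (Gam hδ).subtype) x)), Units.val_one]

theorem chi_twist (θ : Kx →* ℂˣ) (α : Fˣ →* ℂˣ) (χ : G2 → ℂ) :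
    C.chi θ (fun g => (α (Matrix.GeneralLinearGroup.det g) : ℂ) * χ g) =
      C.chi (θ * (α.comp (normHom hδ))⁻¹) χ := by
  funext h
  simp only [chi]
  rw [← mul_assoc, ← Units.val_mul, MonoidHom.mul_apply, MonoidHom.inv_apply, MonoidHom.comp_apply,
    ← map_inv, eq_inv_of_mul_eq_one_right ((mem_Gam hδ).1 (Function.surjInv C.surj h).2)]

variable [Fintype H]

theorem chi_mem {M : Ideal Cfsg.AlgInt} (hM : Cfsg.IsPModular 2 M) {θ : Kx →* ℂˣ} {χ : G2 → ℂ}
    (hs : Scal θ χ) (hirr : Cfsg.IsIrrCharacter G2 χ) (hθ : OddTriv θ)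
    (hB : (⟨χ, hirr⟩ : Cfsg.IrrCharacter G2) ∈ Cfsg.principalBlock M G2) :
    (⟨C.chi θ χ, C.isIrr_chi hs hirr⟩ : Cfsg.IrrCharacter H) ∈ Cfsg.principalBlock M H := by
  refine BlockBasic.sameBlock_of_congr_regular (hp := ⟨hM.1⟩) hM
    (χ := ⟨fun _ => 1, CharBasic.isIrrCharacter_one⟩) fun h hh => ?_
  obtain ⟨x, rfl, ho⟩ := C.exists_odd_lift h
    (Nat.not_even_iff_odd.1 fun e => hh (even_iff_two_dvd.1 e))
  simp only [H82.centralChar_const_one, C.index_pi, C.centralChar_chi hs, fst_odd hθ ho, one_mul]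
  exact (H82.mem_principalBlock_iff _).1 hB _

theorem mem_of_chi {M : Ideal Cfsg.AlgInt} (hM : Cfsg.IsPModular 2 M) {θ : Kx →* ℂˣ} {χ : G2 → ℂ}
    (hs : Scal θ χ) (hirr : Cfsg.IsIrrCharacter G2 χ) (hθ : OddTriv θ)
    (hB : (⟨C.chi θ χ, C.isIrr_chi hs hirr⟩ : Cfsg.IrrCharacter H) ∈ Cfsg.principalBlock M H) :
    (⟨χ, hirr⟩ : Cfsg.IrrCharacter G2) ∈ Cfsg.principalBlock M G2 := by
  refine BlockBasic.sameBlock_of_congr_regular (hp := ⟨hM.1⟩) hM
    (χ := ⟨fun _ => 1, CharBasic.isIrrCharacter_one⟩) fun g hg => ?_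
  obtain ⟨x, rfl, ho⟩ := exists_odd_over (hδ := hδ) g
    (Nat.not_even_iff_odd.1 fun e => hg (even_iff_two_dvd.1 e))
  have h := (H82.mem_principalBlock_iff _).1 hB (C.π x)
  simp only [C.index_pi, C.centralChar_chi hs, fst_odd hθ ho, one_mul] at h
  simpa only [H82.centralChar_const_one] using h

/-- Every member of the principal block comes from `GL₂` with a parameter trivial on odd elements. -/
theorem exists_form {M : Ideal Cfsg.AlgInt} (hM : Cfsg.IsPModular 2 M) {ψ : Cfsg.IrrCharacter H}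
    (hψ : ψ ∈ Cfsg.principalBlock M H) :
    ∃ θ : Kx →* ℂˣ, OddTriv θ ∧ ∃ χ : Cfsg.IrrCharacter G2,
      χ ∈ Cfsg.principalBlock M G2 ∧ Scal θ (χ : G2 → ℂ) ∧ (ψ : H → ℂ) = C.chi θ χ := by
  have h1 := BlockBasic.irr_one_ne_zero ψ.2
  have key : ∀ e : NOne hδ, ∃ c : ℂ, ∀ h, (ψ : H → ℂ) (h * C.T (e, e)) = c * (ψ : H → ℂ) h := by
    intro e
    obtain ⟨n, ρ, hρ, hρψ⟩ := ψ.2
    haveI := hρ
    obtain ⟨c, -, -, hc⟩ := CharBasic.exists_central_scalar ρ (C.T_center e)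
    exact ⟨c, fun g => by rw [← hρψ]; exact hc g⟩
  choose c hc using key
  have hc0 : ∀ e, c e ≠ 0 := fun e h0 => h1 (by
    have := hc e (C.T (e, e))⁻¹
    rwa [inv_mul_cancel, h0, zero_mul] at this)
  have hmul : ∀ a b, c (a * b) = c a * c b := fun a b => by
    have e := hc (a * b) 1
    rw [← Prod.mk_mul_mk, map_mul, one_mul, hc b, ← one_mul (C.T (a, a)), hc a, ← mul_assoc] at e
    rw [← mul_right_cancel₀ h1 e, mul_comm]
  have hone : c 1 = 1 := (mul_eq_left₀ (hc0 1)).1 (by rw [← hmul, mul_one])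
  let γ : NOne hδ →* ℂˣ :=
    { toFun := fun a => Units.mk0 (c a) (hc0 a)
      map_one' := Units.ext hone
      map_mul' := fun a b => Units.ext (hmul a b) }
  have hγ : OddTriv γ := fun e he => by
    refine Units.ext (mul_right_cancel₀ h1 ?_)
    haveI : (Subgroup.zpowers (C.T (e, e))).Normal := ⟨fun n hn g => by
      have hz := (Subgroup.zpowers_le.2 (C.T_center e)) hn
      rw [Subgroup.mem_center_iff.1 hz g, mul_inv_cancel_right]
      exact hn⟩
    have h2 : ¬ 2 ∣ Nat.card (Subgroup.zpowers (C.T (e, e))) := by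
      rw [Nat.card_zpowers, ← even_iff_two_dvd, Nat.not_even_iff_odd]
      refine he.of_dvd_nat ((orderOf_map_dvd C.T (e, e)).trans ?_)
      rw [Prod.orderOf_mk, Nat.lcm_self]
    haveI : Fact (Nat.Prime 2) := ⟨Nat.prime_two⟩
    have := H82.apply_eq_of_mem_principalBlock hM hψ _ h2 (Subgroup.mem_zpowers (C.T (e, e)))
    show c e * _ = ((1 : ℂˣ) : ℂ) * _
    rw [Units.val_one, one_mul]
    rw [← one_mul (C.T (e, e)), hc] at this
    exact this
  obtain ⟨θ, hθ, hθγ⟩ := exists_oddExt hγ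
  let χ₀ : G2 → ℂ := fun g => ((θ (exists_lift hδ g).choose)⁻¹ : ℂˣ) *
    (ψ : H → ℂ) (C.π ⟨(_, g), (exists_lift hδ g).choose_spec⟩)
  have hval : ∀ x : Gam hδ, (ψ : H → ℂ) (C.π x) =
      (θ (x : Kx × G2).1 : ℂ) * χ₀ (x : Kx × G2).2 := by
    rintro ⟨⟨l, g⟩, hx⟩
    set l₀ := (exists_lift hδ g).choose
    have hl₀ : (l₀, g) ∈ Gam hδ := (exists_lift hδ g).choose_spec
    have he : l * l₀⁻¹ ∈ NOne hδ := by
      rw [MonoidHom.mem_ker, map_mul, map_inv, eq_inv_of_mul_eq_one_left ((mem_Gam hδ).1 hx),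
        ← eq_inv_of_mul_eq_one_left ((mem_Gam hδ).1 hl₀), mul_inv_cancel]
    have e : (⟨(l, g), hx⟩ : Gam hδ) =
        ⟨(l₀, g), hl₀⟩ * ⟨(l * l₀⁻¹, 1), mem_scal_mul he (map_one _)⟩ :=
      Subtype.ext (Prod.ext (by show l = l₀ * (l * l₀⁻¹); rw [mul_left_comm, mul_inv_cancel, mul_one])
        (mul_one g).symm)
    rw [e, map_mul, ← C.T_diag ⟨_, he⟩, hc]
    show ((γ ⟨_, he⟩ : ℂˣ) : ℂ) * _ = (θ (l₀ * (l * l₀⁻¹)) : ℂ) * χ₀ (g * 1)
    rw [← hθγ, mul_one, mul_left_comm l₀, mul_inv_cancel, mul_one]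
    show _ = (θ l : ℂ) * ((((θ l₀)⁻¹ : ℂˣ) : ℂ) * (ψ : H → ℂ) (C.π ⟨(l₀, g), hl₀⟩))
    rw [← mul_assoc, ← Units.val_mul, map_mul, map_inv]
  have hs : Scal θ χ₀ := fun g a => by
    obtain ⟨l, hl⟩ := exists_lift hδ g
    have h2 := hval (⟨(l, g), hl⟩ * deltaHom hδ a)
    rw [map_mul, (C.pi_eq_one (x := deltaHom hδ a)).2 ⟨a, rfl⟩, mul_one, hval,
      show ((⟨(l, g), hl⟩ * deltaHom hδ a : Gam hδ) : Kx × G2) =
        (l * scalUnit a⁻¹, g * scalarGL a) from rfl, map_mul, map_inv, map_inv, Units.val_mul,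
      mul_assoc] at h2
    rw [mul_left_cancel₀ (Units.ne_zero _) h2, ← mul_assoc, Units.mul_inv, one_mul]
  have hψeq : (ψ : H → ℂ) = C.chi θ χ₀ := funext fun h => by
    obtain ⟨x, rfl⟩ := C.surj h
    rw [hval, C.chi_pi hs]
  have hcl : Cfsg.IsClassFunction G2 χ₀ := fun g P => by
    obtain ⟨l, hl⟩ := exists_lift hδ g
    have hm : (l, P * g * P⁻¹) ∈ Gam hδ := by rw [mem_Gam, det_conj]; exact hl
    obtain ⟨y, hy⟩ := isConj_iff.1 (C.isConj_pi hl hm (isConj_iff.2 ⟨P, rfl⟩))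
    have h3 := hval ⟨_, hm⟩
    rw [← hy, CharBasic.IsIrr.isClassFunction ψ.2, hval ⟨_, hl⟩] at h3
    exact (mul_left_cancel₀ (Units.ne_zero _) h3).symm
  have hne : χ₀ ≠ 0 := fun e => h1 (by
    rw [hψeq, ← map_one C.π, C.chi_pi hs, e, Pi.zero_apply, mul_zero])
  obtain ⟨χ, hχ⟩ : ∃ χ : Cfsg.IrrCharacter G2, Cfsg.classInner χ₀ (χ : G2 → ℂ) ≠ 0 := by
    by_contra h
    exact hne (CharBasic.eq_zero_of_classInner_eq_zero hcl (by simpa using h))
  have hs' : Scal θ (χ : G2 → ℂ) := by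
    obtain ⟨ω, hω⟩ := exists_scalar_char χ
    intro g a
    rw [hω]
    congr 1
    have hS : ∑ x : G2, χ₀ x * conj ((χ : G2 → ℂ) x) =
        (θ (scalUnit a) : ℂ) * conj (ω (a : F)) * ∑ x : G2, χ₀ x * conj ((χ : G2 → ℂ) x) := by
      refine (Equiv.sum_comp (Equiv.mulRight (scalarGL a : G2))
        (fun x => χ₀ x * conj ((χ : G2 → ℂ) x))).symm.trans ?_
      rw [mul_sum]
      exact sum_congr rfl fun x _ => by
        rw [Equiv.coe_mulRight, hs, hω, map_mul, mul_mul_mul_comm]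
    have h5 : (θ (scalUnit a) : ℂ) * conj (ω (a : F)) = 1 :=
      mul_right_cancel₀ (fun e => hχ (by rw [CharBasic.classInner_def, e, mul_zero]))
        (hS.symm.trans (one_mul _).symm)
    have h6 := congrArg conj (mul_left_cancel₀ (Units.ne_zero _)
      (h5.trans (ofUnit_norm θ (scalUnit a)).symm))
    simpa using h6
  have he : (ψ : H → ℂ) = C.chi θ χ := by
    by_contra h
    apply hχ
    rw [← C.classInner_chi hs hs', ← hψeq]
    exact CharBasic.classInner_irr_of_ne ψ.2 (C.isIrr_chi hs' χ.2) h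
  refine ⟨θ, hθ, χ, C.mem_of_chi hM hs' χ.2 hθ ?_, hs', he⟩
  exact (Subtype.ext he : ψ = ⟨_, C.isIrr_chi hs' χ.2⟩) ▸ hψ

theorem block_mpr {M : Ideal Cfsg.AlgInt} (hM : Cfsg.IsPModular 2 M) (ψ : Cfsg.IrrCharacter H)
    (h : (∃ α, OddTriv α ∧ (ψ : H → ℂ) = C.linF α) ∨
      (∃ α, OddTriv α ∧ (ψ : H → ℂ) = -C.stF α) ∨
      (∃ α β, OddTriv α ∧ OddTriv β ∧ α ≠ β ∧ (ψ : H → ℂ) = -C.psF α β) ∨
      ∃ θ : Kx →* ℂˣ, OddTriv θ ∧ (∃ y, θ (y ^ (-(Fintype.card F : ℤ))) ≠ θ y) ∧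
        (ψ : H → ℂ) = -C.cuF θ) :
    ψ ∈ Cfsg.principalBlock M H := by
  rcases h with ⟨α, hα, e⟩ | ⟨α, hα, e⟩ | ⟨α, β, hα, hβ, hne, e⟩ | ⟨θ, hθ, hf, e⟩
  · have h := C.chi_mem hM (scal_one α) (isIrrCharacter_linFun 1) (oddTriv_normA hα)
      (linFun_mem hM oddTrivChar_one)
    exact (Subtype.ext e : ψ = ⟨_, C.irr_linF α⟩) ▸ h
  · have h := C.chi_mem hM (scal_st α) (isIrrCharacter_stFun 1) (oddTriv_normA hα)
      (stFun_mem hδ hM oddTrivChar_one)
    rw [stF, neg_neg] at e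
    exact (Subtype.ext e : ψ = ⟨_, C.isIrr_chi (scal_st α) (isIrrCharacter_stFun 1)⟩) ▸ h
  · obtain ⟨θ, hθ, hθe⟩ := exists_oddExt (oddTriv_mul hα hβ)
    have hθ' : ∀ a : NOne hδ, θ a = α a * β a := hθe
    have hφ : OddTrivial (twistBy θ β) :=
      oddTriv_mul hθ (oddTriv_inv (oddTriv_normA hβ))
    have h := C.chi_mem hM (scal_cusp hθ' hne) (isIrrCharacter_cusp hδ _ (twistBy_moved hθ' hne)) hθ
      (cusp_mem hδ hM hφ (twistBy_moved hθ' hne))
    rw [C.psF_eq hθ' hne, neg_neg] at e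
    exact (Subtype.ext e : ψ = ⟨_, C.isIrr_chi (scal_cusp hθ' hne) (isIrrCharacter_cusp hδ _ (twistBy_moved hθ' hne))⟩) ▸ h
  · have hne := normA_ne_scal hf hδ
    have h := C.chi_mem hM (scal_prin θ) (isIrrCharacter_prin hne) hθ
      (prin_mem hδ hM (centChar_oddTriv hθ) oddTrivChar_one hne)
    rw [cuF, neg_neg] at e
    exact (Subtype.ext e : ψ = ⟨_, C.isIrr_chi (scal_prin θ) (isIrrCharacter_prin hne)⟩) ▸ h

theorem block_mp {M : Ideal Cfsg.AlgInt} (hM : Cfsg.IsPModular 2 M) (ψ : Cfsg.IrrCharacter H)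
    (hψ : ψ ∈ Cfsg.principalBlock M H) :
    (∃ α, OddTriv α ∧ (ψ : H → ℂ) = C.linF α) ∨
      (∃ α, OddTriv α ∧ (ψ : H → ℂ) = -C.stF α) ∨
      (∃ α β, OddTriv α ∧ OddTriv β ∧ α ≠ β ∧ (ψ : H → ℂ) = -C.psF α β) ∨
      ∃ θ : Kx →* ℂˣ, OddTriv θ ∧ (∃ y, θ (y ^ (-(Fintype.card F : ℤ))) ≠ θ y) ∧
        (ψ : H → ℂ) = -C.cuF θ := by
  obtain ⟨θ, hθ, χ, hχ, hs, he⟩ := C.exists_form hM hψ
  have hq : (Fintype.card F : ℂ) ≠ 0 := Nat.cast_ne_zero.2 Fintype.card_ne_zero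
  have hsc : ∀ a : Fˣ, (χ : G2 → ℂ) (scalarGL a) = (θ (scalUnit a) : ℂ) * (χ : G2 → ℂ) 1 :=
    fun a => by rw [← hs 1 a, one_mul]
  have htw : ∀ {α : MulChar F ℂ}, OddTrivChar α →
      OddTriv (θ * (α.toUnitHom.comp (normHom hδ))⁻¹) := fun ha =>
    oddTriv_mul hθ (oddTriv_inv fun z hz =>
      oddTrivChar_toUnitHom ha _ (hz.of_dvd_nat (orderOf_map_dvd _ z)))
  have htw' : ∀ (α : MulChar F ℂ) (a : Fˣ),
      ((θ * (α.toUnitHom.comp (normHom hδ))⁻¹) (scalUnit a) : ℂ) =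
        (θ (scalUnit a) : ℂ) * (α (a : F) * α (a : F))⁻¹ := fun α a => by
    simp [normHom_scal]
  rcases principal_cases hδ hM hχ with ⟨α, hα, e⟩ | ⟨α, hα, e⟩ | ⟨α, β, hα, hβ, hne, e⟩ |
    ⟨φ, hφ, hf, e⟩
  · obtain ⟨α', hα', hd⟩ := exists_descend hδ (μ := θ * (α.toUnitHom.comp (normHom hδ))⁻¹)
      (fun a => Units.ext (by
        have h := hsc a
        rw [e, linFun_scalar, linFun_one, mul_one] at h
        rw [htw', ← h, mul_inv_cancel₀ (mul_ne_zero (a.isUnit.map α).ne_zero (a.isUnit.map α).ne_zero),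
          Units.val_one])) (htw hα)
    refine Or.inl ⟨α', hα', ?_⟩
    rw [linF, ← hd, ← C.chi_twist, he, e]
    congr 1
    funext g
    rw [linFun_one_fun, mul_one, linFun, MulChar.coe_toUnitHom,
      Matrix.GeneralLinearGroup.val_det_apply]
  · obtain ⟨α', hα', hd⟩ := exists_descend hδ (μ := θ * (α.toUnitHom.comp (normHom hδ))⁻¹)
      (fun a => Units.ext (by
        have h := hsc a
        rw [e, stFun_scalar, stFun_one, mul_comm (θ _ : ℂ)] at h
        rw [htw', ← mul_left_cancel₀ hq h,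
          mul_inv_cancel₀ (mul_ne_zero (a.isUnit.map α).ne_zero (a.isUnit.map α).ne_zero),
          Units.val_one])) (htw hα)
    refine Or.inr (Or.inl ⟨α', hα', ?_⟩)
    rw [stF, neg_neg, ← hd, ← C.chi_twist, he, e, stFun_twist hδ]
  · set θ' := θ * (β.toUnitHom.comp (normHom hδ))⁻¹ with hθ'
    have hsc' : ∀ a : Fˣ, (θ (scalUnit a) : ℂ) = α (a : F) * β (a : F) := fun a => by
      have h := hsc a
      rw [e, prin_scalar, prin_one, mul_comm (θ _ : ℂ)] at h
      exact (mul_left_cancel₀ (Nat.cast_add_one_ne_zero _) h).symm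
    have hc : centChar θ' = α * β⁻¹ := MulChar.ext fun a => by
      rw [centChar_apply, hθ', htw', hsc', MulChar.mul_apply, MulChar.inv_apply_eq_inv']
      have := (β.toUnitHom a).ne_zero
      rw [MulChar.coe_toUnitHom] at this
      field_simp
    refine Or.inr (Or.inr (Or.inr ⟨θ', htw hβ, ?_, ?_⟩))
    · by_contra hno
      push_neg at hno
      refine hne (mul_inv_eq_one.1 ?_)
      rw [← hc]
      refine MulChar.ext fun a => ?_
      obtain ⟨y, rfl⟩ := normHom_surjective hδ a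
      have h2 := hno y
      rw [zpow_neg_card hδ] at h2
      conv_rhs at h2 => rw [← coe_normA_frob (hδ := hδ) y, map_mul]
      rw [centChar_apply, left_eq_mul.1 h2, Units.val_one, MulChar.one_apply (Units.isUnit _)]
    · rw [cuF, neg_neg, hc, hθ', ← C.chi_twist, he, e, prin_twist hδ]
  · have hsc' : ∀ a : Fˣ, θ (scalUnit a) = φ (scalUnit a) := fun a => Units.ext (by
      have h := hsc a
      rw [e, cusp_scalar, cusp_one, centChar_apply, mul_comm (θ _ : ℂ)] at h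
      exact (mul_left_cancel₀ (sub_ne_zero.2
        (by rw [Nat.cast_ne_one]; exact Fintype.one_lt_card.ne')) h).symm)
    obtain ⟨β, hβ, hd⟩ := exists_descend hδ (μ := θ * φ⁻¹)
      (fun a => by rw [MonoidHom.mul_apply, MonoidHom.inv_apply, hsc', mul_inv_cancel])
      (oddTriv_mul hθ (oddTriv_inv hφ))
    set α : NOne hδ →* ℂˣ := θ.comp (NOne hδ).subtype * β⁻¹
    have hθα : ∀ a : NOne hδ, θ a = α a * β a := fun a => by
      show _ = θ (a : Kx) * (β a)⁻¹ * β a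
      rw [inv_mul_cancel_right]
    have hφe : twistBy θ β = φ := by
      rw [twistBy, ← hd]
      exact div_div_cancel θ φ |> fun h => by simpa [div_eq_mul_inv] using h
    have hα : OddTriv α :=
      oddTriv_mul (fun a ha => hθ (a : Kx) (by rwa [Subgroup.orderOf_coe])) (oddTriv_inv hβ)
    have hne : α ≠ β := fun h => hf (MonoidHom.ext fun z => by
      rw [← hφe, MonoidHom.comp_apply, twistBy_apply, twistBy_apply, normA_conj, map_inv, inv_inv]
      have h2 : θ (conjUnit z) = θ z * (θ (normA hδ z : Kx))⁻¹ := by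
        rw [coe_normA, map_div, inv_div, mul_div_cancel]
      rw [h2, hθα, h, mul_inv, mul_assoc, mul_assoc, inv_mul_cancel, mul_one])
    refine Or.inr (Or.inr (Or.inl ⟨α, β, hα, hβ, hne, ?_⟩))
    rw [C.psF_eq hθα hne, neg_neg, hφe, he, e]

end Cover

end Cfsg.Agent.H36.GUTwo
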