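import Cfsg.Agent.H36.GUTwo.Twist

/-!
# The signed characters of a group covered by `Gam`
-/

set_option autoImplicit false
set_option linter.unusedSectionVars false
set_option linter.style.haveILetI false

namespace Cfsg.Agent.H36.GUTwo

open Matrix Finset Cfsg.Agent.H53 Cfsg.Agent.H3.SDOrder Cfsg.Agent.H36.TwoTori
open scoped Classical

universe v

variable {F : Type v} [Field F] [Fintype F] [DecidableEq F] [DecidableEq (MulChar F ℂ)] {δ : F}
  {hδ : ¬ IsSquare δ} [Fintype (Quad δ)ˣ]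

local notation "G2" => Matrix.GeneralLinearGroup (Fin 2) F
local notation "M2" => Matrix (Fin 2) (Fin 2) F
local notation "Kx" => (Quad δ)ˣ

theorem zpow_neg_card (hδ : ¬ IsSquare δ) (y : Kx) :
    y ^ (-(Fintype.card F : ℤ)) = (conjUnit y)⁻¹ := by
  rw [_root_.zpow_neg, zpow_natCast, ← conjUnit_eq_pow hδ]

theorem normA_scal (hδ : ¬ IsSquare δ) (a : Fˣ) : normA hδ (scalUnit a) = 1 := by
  rw [← MonoidHom.mem_ker, normA_ker]; exact ⟨a, rfl⟩

theorem normA_inv_conj (hδ : ¬ IsSquare δ) (y : Kx) :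
    normA hδ (conjUnit y)⁻¹ = normA hδ y := by
  refine Subtype.ext ?_
  rw [coe_normA, coe_normA, map_inv, conj_conj, inv_div_inv]

theorem normA_conj (hδ : ¬ IsSquare δ) (y : Kx) : normA hδ (conjUnit y) = (normA hδ y)⁻¹ := by
  refine Subtype.ext ?_
  rw [coe_normA, Subgroup.coe_inv, coe_normA, conj_conj, inv_div]

theorem normA_eig (x : Dom hδ) :
    normA hδ (x : Kx × Kx).2 = (eig hδ x).1 * ((eig hδ x).2)⁻¹ := by
  refine Subtype.ext ?_
  rw [coe_normA, Subgroup.coe_mul, Subgroup.coe_inv, eig_fst, eig_snd, ← div_eq_mul_inv,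
    mul_div_mul_left_eq_div]

theorem normA_fst (x : Dom hδ) :
    normA hδ (x : Kx × Kx).1 = (eig hδ x).1 * (eig hδ x).2 := by
  refine Subtype.ext ?_
  rw [coe_normA, Subgroup.coe_mul, eig_fst, eig_snd, mul_mul_mul_comm, ← scal_norm hδ,
    eq_inv_of_mul_eq_one_right (dom_rel hδ x), map_inv, scal_norm hδ, div_eq_mul_inv, mul_inv,
    mul_assoc, mul_inv_cancel_left]

theorem exists_ext (γ : NOne hδ →* ℂˣ) : ∃ θ : Kx →* ℂˣ, ∀ a : NOne hδ, θ a = γ a := by
  obtain ⟨θ, hθ⟩ := MonoidHom.domRestrict_surjective (M := ℂ) (NOne hδ) γ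
  exact ⟨θ, fun a => by rw [← hθ]; rfl⟩

/-- A chosen extension. -/
noncomputable def extend (γ : NOne hδ →* ℂˣ) : Kx →* ℂˣ := (exists_ext γ).choose

theorem extend_apply (γ : NOne hδ →* ℂˣ) (a : NOne hδ) : extend γ a = γ a :=
  (exists_ext γ).choose_spec a

/-- The second parameter of a cuspidal one. -/
noncomputable def twistBy (θ : Kx →* ℂˣ) (β : NOne hδ →* ℂˣ) : Kx →* ℂˣ :=
  θ * (β.comp (normA hδ))⁻¹

theorem twistBy_apply (θ : Kx →* ℂˣ) (β : NOne hδ →* ℂˣ) (z : Kx) :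
    twistBy θ β z = θ z * (β (normA hδ z))⁻¹ := rfl

theorem centChar_twistBy (θ : Kx →* ℂˣ) (β : NOne hδ →* ℂˣ) (a : Fˣ) :
    centChar (twistBy θ β) (a : F) = (θ (scalUnit a) : ℂ) := by
  rw [centChar_apply, twistBy_apply, normA_scal, map_one, inv_one, mul_one]

/-- `α = β` is the only fixed case. -/
theorem twistBy_moved {θ : Kx →* ℂˣ} {α β : NOne hδ →* ℂˣ} (hθ : ∀ a : NOne hδ, θ a = α a * β a)
    (hne : α ≠ β) : (twistBy θ β).comp conjUnit ≠ twistBy θ β := by
  intro h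
  refine hne (MonoidHom.ext fun n => ?_)
  obtain ⟨z, rfl⟩ := normA_surjective hδ n
  have h1 := DFunLike.congr_fun h z
  rw [MonoidHom.comp_apply, twistBy_apply, twistBy_apply, normA_conj, map_inv, inv_inv] at h1
  have h2 : θ (conjUnit z) = θ z * (θ (normA hδ z : Kx))⁻¹ := by
    rw [coe_normA, map_div, inv_div, mul_div_cancel]
  rw [h2, hθ, mul_inv, mul_assoc, mul_assoc, inv_mul_cancel, mul_one, mul_right_inj, _root_.inv_inj] at h1
  exact h1

theorem linFun_one_fun (g : G2) : linFun (1 : MulChar F ℂ) g = 1 := by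
  rw [linFun]
  exact MulChar.one_apply (isUnit_iff_ne_zero.2 (Matrix.GeneralLinearGroup.det_ne_zero g))

theorem stFun_torus {z : Kx} (hz : (z : Quad δ).im ≠ 0) :
    stFun (1 : MulChar F ℂ) (torusHom hδ z) = -1 := by
  rw [stFun, Pi.sub_apply, prin_noEigen _ _ (noEigen_torus hδ hz), linFun_one_fun, zero_sub]

theorem im_ne_of_eig {x : Dom hδ} (h : (eig hδ x).1 ≠ (eig hδ x).2) :
    ((x : Kx × Kx).2 : Quad δ).im ≠ 0 := by
  intro e
  obtain ⟨a, ha⟩ := exists_scalUnit_eq e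
  refine h (Subtype.ext ?_)
  rw [eig_fst, eig_snd, ← ha, conj_scal]

theorem norm_ne_of_not_mem {y : Kx} (hy : y ∉ (NOne hδ).subtype.range) :
    (normHom hδ y : F) ≠ 1 := fun e => hy (Cover.mem_range_incl.2 (Units.ext e))

theorem coe_normA_frob (y : Kx) : (conjUnit y)⁻¹ * scalUnit (normHom hδ y) = y := by
  rw [scal_norm hδ, mul_comm y, inv_mul_cancel_left]

theorem normA_ne_scal {θ : Kx →* ℂˣ} (h : ∃ y, θ (y ^ (-(Fintype.card F : ℤ))) ≠ θ y)
    (hδ : ¬ IsSquare δ) : centChar θ ≠ 1 := by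
  intro e
  obtain ⟨y, hy⟩ := h
  apply hy
  have h1 : θ (scalUnit (normHom hδ y)) = 1 := Units.ext (by
    rw [← centChar_apply, e, MulChar.one_apply (Units.isUnit _), Units.val_one])
  conv_rhs => rw [← coe_normA_frob (hδ := hδ) y, map_mul, h1, mul_one]
  rw [zpow_neg_card hδ]

namespace Cover

variable {H : Type v} [Group H] (C : Cover hδ H)

theorem scal_one (α : NOne hδ →* ℂˣ) :
    Scal (α.comp (normA hδ)) (linFun (1 : MulChar F ℂ)) := fun g a => by
  rw [linFun_one_fun, linFun_one_fun, MonoidHom.comp_apply, normA_scal, map_one, Units.val_one,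
    one_mul]

theorem scal_st (α : NOne hδ →* ℂˣ) :
    Scal (α.comp (normA hδ)) (stFun (1 : MulChar F ℂ)) :=
  scal_of_irr (isIrrCharacter_stFun 1) fun a => by
    rw [stFun_scalar, stFun_one, MonoidHom.comp_apply, normA_scal, map_one, Units.val_one,
      MulChar.one_apply a.isUnit]
    ring

theorem scal_prin (θ : Kx →* ℂˣ) : Scal θ (prin (centChar θ) 1) := by
  by_cases h : centChar θ = 1
  · have e : prin (centChar θ) 1 = stFun (1 : MulChar F ℂ) + linFun 1 := by
      rw [h, stFun, sub_add_cancel]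
    have h1 : ∀ a, (θ (scalUnit a) : ℂ) = 1 := fun a => by
      rw [← centChar_apply, h, MulChar.one_apply a.isUnit]
    intro g a
    rw [e, Pi.add_apply, Pi.add_apply, linFun_one_fun, linFun_one_fun, h1, one_mul]
    congr 1
    have := scal_of_irr (θ := (1 : Kx →* ℂˣ)) (isIrrCharacter_stFun (1 : MulChar F ℂ))
      (fun b => by
        rw [stFun_scalar, stFun_one, MonoidHom.one_apply, Units.val_one,
          MulChar.one_apply b.isUnit]
        ring) g a
    simpa using this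
  · refine scal_of_irr (isIrrCharacter_prin h) fun a => ?_
    rw [prin_scalar, prin_one, centChar_apply, MulChar.one_apply a.isUnit]
    ring

theorem scal_cusp {θ : Kx →* ℂˣ} {α β : NOne hδ →* ℂˣ} (hθ : ∀ a : NOne hδ, θ a = α a * β a)
    (hne : α ≠ β) : Scal θ (cusp hδ (twistBy θ β)) :=
  scal_of_irr (isIrrCharacter_cusp hδ _ (twistBy_moved hθ hne)) fun a => by
    rw [cusp_scalar, cusp_one, centChar_twistBy]
    ring

/-- The linear characters. -/
noncomputable def linF (α : NOne hδ →* ℂˣ) : H → ℂ :=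
  C.chi (α.comp (normA hδ)) (linFun (1 : MulChar F ℂ))

/-- The negatives of the Steinberg characters. -/
noncomputable def stF (α : NOne hδ →* ℂˣ) : H → ℂ :=
  -C.chi (α.comp (normA hδ)) (stFun (1 : MulChar F ℂ))

/-- The negatives of the characters of degree `q + 1`. -/
noncomputable def cuF (θ : Kx →* ℂˣ) : H → ℂ := -C.chi θ (prin (centChar θ) 1)

/-- The negatives of the characters of degree `q - 1`. -/
noncomputable def psF (α β : NOne hδ →* ℂˣ) : H → ℂ :=
  if α = β then C.linF α + C.stF α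
  else -C.chi (extend (α * β)) (cusp hδ (twistBy (extend (α * β)) β))

theorem linF_centre (α : NOne hδ →* ℂˣ) (e : NOne hδ) :
    C.linF α (C.T (e, e)) = (α e : ℂ) * α e := by
  rw [linF, C.diag_val (scal_one α), linFun_one_fun, mul_one, MonoidHom.comp_apply, normA_coe,
    map_mul, Units.val_mul]

theorem linF_uni (α : NOne hδ →* ℂˣ) (e : NOne hδ) :
    C.linF α (C.T (e, e) * C.uni) = (α e : ℂ) * α e := by
  rw [linF, C.uni_val (scal_one α), linFun_one_fun, mul_one, MonoidHom.comp_apply, normA_coe,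
    map_mul, Units.val_mul]

theorem linF_T (α : NOne hδ →* ℂˣ) (a b : NOne hδ) :
    C.linF α (C.T (a, b)) = (α a : ℂ) * α b := by
  obtain ⟨x, hx⟩ := eig_surjective hδ (a, b)
  rw [← hx, linF, C.T_eig_val (scal_one α), linFun_one_fun, mul_one, MonoidHom.comp_apply,
    normA_fst, map_mul, Units.val_mul, hx]

theorem linF_S (α : NOne hδ →* ℂˣ) (y : Kx) : C.linF α (C.S y) = (α (normA hδ y) : ℂ) := by
  rw [linF, C.S_val (scal_one α), linFun_one_fun, mul_one, MonoidHom.comp_apply, normA_inv_conj]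

theorem stF_centre (α : NOne hδ →* ℂˣ) (e : NOne hδ) :
    C.stF α (C.T (e, e)) =
      ((-(Fintype.card F : ℤ) : ℤ) : ℂ) * ((α e : ℂ) * α e) := by
  rw [stF, Pi.neg_apply, C.diag_val (scal_st α), stFun_one, MonoidHom.comp_apply, normA_coe,
    map_mul, Units.val_mul]
  push_cast
  ring

theorem stF_uni (α : NOne hδ →* ℂˣ) (e : NOne hδ) : C.stF α (C.T (e, e) * C.uni) = 0 := by
  rw [stF, Pi.neg_apply, C.uni_val (scal_st α),
    stFun_one_upper_eq (by simp [uGL, coe_upGL]) (by simp [uGL, coe_upGL]) (by simp [uGL, coe_upGL]),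
    mul_zero, neg_zero]

theorem stF_T (α : NOne hδ →* ℂˣ) (a b : NOne hδ) (hab : a ≠ b) :
    C.stF α (C.T (a, b)) = (α a : ℂ) * α b := by
  obtain ⟨x, hx⟩ := eig_surjective hδ (a, b)
  rw [← hx, stF, Pi.neg_apply, C.T_eig_val (scal_st α),
    stFun_torus (im_ne_of_eig (by rw [hx]; exact hab)), MonoidHom.comp_apply, normA_fst, hx,
    map_mul, Units.val_mul]
  ring

theorem stF_S (α : NOne hδ →* ℂˣ) (y : Kx) (hy : y ∉ (NOne hδ).subtype.range) :
    C.stF α (C.S y) = -(α (normA hδ y) : ℂ) := by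
  rw [stF, Pi.neg_apply, C.S_val (scal_st α),
    stFun_one_upper_ne (by simp [coe_splitHom])
      (by simpa [coe_splitHom] using norm_ne_of_not_mem hy),
    mul_one, MonoidHom.comp_apply, normA_inv_conj]

theorem cuF_centre (θ : Kx →* ℂˣ) (e : NOne hδ) : C.cuF θ (C.T (e, e)) =
    (((-(Fintype.card F : ℤ) : ℤ) : ℂ) - 1) * (θ ((NOne hδ).subtype e) : ℂ) := by
  rw [cuF, Pi.neg_apply, C.diag_val (scal_prin θ), prin_one]
  push_cast
  show _ = _ * (θ (e : Kx) : ℂ)
  ring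

theorem cuF_uni (θ : Kx →* ℂˣ) (e : NOne hδ) :
    C.cuF θ (C.T (e, e) * C.uni) = -(θ ((NOne hδ).subtype e) : ℂ) := by
  rw [cuF, Pi.neg_apply, C.uni_val (scal_prin θ), prin_uGL, mul_one]
  rfl

theorem cuF_T (θ : Kx →* ℂˣ) (a b : NOne hδ) (hab : a ≠ b) : C.cuF θ (C.T (a, b)) = 0 := by
  obtain ⟨x, hx⟩ := eig_surjective hδ (a, b)
  rw [← hx, cuF, Pi.neg_apply, C.T_eig_val (scal_prin θ),
    prin_noEigen _ _ (noEigen_torus hδ (im_ne_of_eig (by rw [hx]; exact hab))), mul_zero, neg_zero]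

theorem cuF_S (θ : Kx →* ℂˣ) (y : Kx) (hy : y ∉ (NOne hδ).subtype.range) :
    C.cuF θ (C.S y) = -((θ y : ℂ) + (θ (y ^ (-(Fintype.card F : ℤ))) : ℂ)) := by
  rw [cuF, Pi.neg_apply, C.S_val (scal_prin θ),
    prin_diag _ _ (by simp [coe_splitHom]) (by simp [coe_splitHom])
      (by simpa [coe_splitHom] using norm_ne_of_not_mem hy)]
  simp only [coe_splitHom, Matrix.of_apply, Matrix.cons_val', Matrix.cons_val_zero,
    Matrix.cons_val_one, Matrix.cons_val_fin_one, Units.val_one, map_one, mul_one,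
    MulChar.one_apply (Units.isUnit (normHom hδ y)), centChar_apply]
  rw [zpow_neg_card hδ, mul_add, mul_one, ← Units.val_mul, ← map_mul, coe_normA_frob]

variable {θ : (Quad δ)ˣ →* ℂˣ} {α β : NOne hδ →* ℂˣ}

theorem cuspTwist_centre (hθ : ∀ a : NOne hδ, θ a = α a * β a) (hne : α ≠ β) (e : NOne hδ) :
    (-C.chi θ (cusp hδ (twistBy θ β))) (C.T (e, e)) =
      (((-(Fintype.card F : ℤ) : ℤ) : ℂ) + 1) * ((α e : ℂ) * β e) := by
  rw [Pi.neg_apply, C.diag_val (scal_cusp hθ hne), cusp_one, hθ, Units.val_mul]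
  push_cast
  ring

theorem cuspTwist_uni (hθ : ∀ a : NOne hδ, θ a = α a * β a) (hne : α ≠ β) (e : NOne hδ) :
    (-C.chi θ (cusp hδ (twistBy θ β))) (C.T (e, e) * C.uni) = (α e : ℂ) * β e := by
  rw [Pi.neg_apply, C.uni_val (scal_cusp hθ hne),
    cusp_upper_eq hδ _ (by simp [uGL, coe_upGL]) (by simp [uGL, coe_upGL]) (by simp [uGL, coe_upGL]),
    hθ, Units.val_mul,
    show centChar (twistBy θ β) (((uGL : G2) : M2) 0 0) = (θ (scalUnit 1) : ℂ) by
      rw [← centChar_twistBy θ β 1]; simp [uGL, coe_upGL],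
    map_one, map_one, Units.val_one]
  ring

theorem cuspTwist_T (hθ : ∀ a : NOne hδ, θ a = α a * β a) (hne : α ≠ β) (a b : NOne hδ)
    (hab : a ≠ b) : (-C.chi θ (cusp hδ (twistBy θ β))) (C.T (a, b)) =
      (α a : ℂ) * β b + (α b : ℂ) * β a := by
  obtain ⟨x, hx⟩ := eig_surjective hδ (a, b)
  have h1 : θ (x : Kx × Kx).1 * θ (x : Kx × Kx).2 = α a * β a := by
    rw [← map_mul, ← eig_fst, hx, hθ]
  have h2 : θ (x : Kx × Kx).1 * θ (conjUnit (x : Kx × Kx).2) = α b * β b := by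
    rw [← map_mul, ← eig_snd, hx, hθ]
  rw [← hx, Pi.neg_apply, C.T_eig_val (scal_cusp hθ hne),
    cusp_torus hδ _ (im_ne_of_eig (by rw [hx]; exact hab)), mul_neg, neg_neg, mul_add,
    ← Units.val_mul, ← Units.val_mul, twistBy_apply, twistBy_apply, normA_conj, normA_eig, hx,
    ← mul_assoc, ← mul_assoc, h1, h2, ← Units.val_mul, ← Units.val_mul]
  congr 2
  · rw [map_mul, map_inv, mul_inv, inv_inv]
    calc α a * β a * ((β a)⁻¹ * β b) = α a * (β a * (β a)⁻¹) * β b := by ac_rfl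
      _ = α a * β b := by rw [mul_inv_cancel, mul_one]
  · rw [map_inv, inv_inv, map_mul, map_inv]
    calc α b * β b * (β a * (β b)⁻¹) = α b * β a * (β b * (β b)⁻¹) := by ac_rfl
      _ = α b * β a := by rw [mul_inv_cancel, mul_one]

theorem cuspTwist_S (hθ : ∀ a : NOne hδ, θ a = α a * β a) (hne : α ≠ β) (y : Kx)
    (hy : y ∉ (NOne hδ).subtype.range) : (-C.chi θ (cusp hδ (twistBy θ β))) (C.S y) = 0 := by
  rw [Pi.neg_apply, C.S_val (scal_cusp hθ hne),
    cusp_upper_ne hδ _ (by simp [coe_splitHom])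
      (by simpa [coe_splitHom] using norm_ne_of_not_mem hy), mul_zero, neg_zero]

theorem extend_mul (α β : NOne hδ →* ℂˣ) (a : NOne hδ) : extend (α * β) a = α a * β a := by
  rw [extend_apply, MonoidHom.mul_apply]

theorem psF_centre (α β : NOne hδ →* ℂˣ) (e : NOne hδ) : C.psF α β (C.T (e, e)) =
    (((-(Fintype.card F : ℤ) : ℤ) : ℂ) + 1) * ((α e : ℂ) * β e) := by
  rw [psF]
  split_ifs with h
  · rw [Pi.add_apply, linF_centre, stF_centre, h]; ring
  · exact C.cuspTwist_centre (extend_mul α β) h e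

theorem psF_uni (α β : NOne hδ →* ℂˣ) (e : NOne hδ) :
    C.psF α β (C.T (e, e) * C.uni) = (α e : ℂ) * β e := by
  rw [psF]
  split_ifs with h
  · rw [Pi.add_apply, linF_uni, stF_uni, h, add_zero]
  · exact C.cuspTwist_uni (extend_mul α β) h e

theorem psF_T (α β : NOne hδ →* ℂˣ) (a b : NOne hδ) (hab : a ≠ b) :
    C.psF α β (C.T (a, b)) = (α a : ℂ) * β b + (α b : ℂ) * β a := by
  rw [psF]
  split_ifs with h
  · rw [Pi.add_apply, C.linF_T, C.stF_T _ _ _ hab, h]; ring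
  · exact C.cuspTwist_T (extend_mul α β) h a b hab

theorem psF_S (α β : NOne hδ →* ℂˣ) (y : Kx) (hy : y ∉ (NOne hδ).subtype.range) :
    C.psF α β (C.S y) = 0 := by
  rw [psF]
  split_ifs with h
  · rw [Pi.add_apply, C.linF_S, C.stF_S _ _ hy, add_neg_cancel]
  · exact C.cuspTwist_S (extend_mul α β) h y hy

variable [Fintype H]

/-- The value of `psF` does not depend on the extension. -/
theorem psF_eq (hθ : ∀ a : NOne hδ, θ a = α a * β a) (hne : α ≠ β) :
    C.psF α β = -C.chi θ (cusp hδ (twistBy θ β)) := by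
  have hcl : ∀ {θ' : Kx →* ℂˣ}, (∀ a : NOne hδ, θ' a = α a * β a) →
      Cfsg.IsClassFunction H (-C.chi θ' (cusp hδ (twistBy θ' β))) := fun h g x => by
    simp only [Pi.neg_apply,
      C.isClassFunction_chi (scal_cusp h hne) (isClassFunction_cusp hδ _) g x]
  have e : C.psF α β = -C.chi (extend (α * β)) (cusp hδ (twistBy (extend (α * β)) β)) := if_neg hne
  rw [e]
  refine C.ext_types (hcl (extend_mul α β)) (hcl hθ) (fun e => ?_) (fun e => ?_)
    (fun a b h => ?_) (fun y h => ?_)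
  · rw [C.cuspTwist_centre (extend_mul α β) hne, C.cuspTwist_centre hθ hne]
  · rw [C.cuspTwist_uni (extend_mul α β) hne, C.cuspTwist_uni hθ hne]
  · rw [C.cuspTwist_T (extend_mul α β) hne a b h, C.cuspTwist_T hθ hne a b h]
  · rw [C.cuspTwist_S (extend_mul α β) hne y h, C.cuspTwist_S hθ hne y h]

theorem irr_linF (α : NOne hδ →* ℂˣ) : Cfsg.IsIrrCharacter H (C.linF α) :=
  C.isIrr_chi (scal_one α) (isIrrCharacter_linFun 1)

theorem irr_stF (α : NOne hδ →* ℂˣ) : Cfsg.IsIrrCharacter H (-C.stF α) := by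
  rw [stF, neg_neg]; exact C.isIrr_chi (scal_st α) (isIrrCharacter_stFun 1)

theorem irr_cuF {θ : Kx →* ℂˣ} (h : ∃ y, θ (y ^ (-(Fintype.card F : ℤ))) ≠ θ y) :
    Cfsg.IsIrrCharacter H (-C.cuF θ) := by
  rw [cuF, neg_neg]
  exact C.isIrr_chi (scal_prin θ) (isIrrCharacter_prin (normA_ne_scal h hδ))

theorem irr_psF {α β : NOne hδ →* ℂˣ} (hne : α ≠ β) : Cfsg.IsIrrCharacter H (-C.psF α β) := by
  rw [C.psF_eq (extend_mul α β) hne, neg_neg]
  exact C.isIrr_chi (scal_cusp (extend_mul α β) hne)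
    (isIrrCharacter_cusp hδ _ (twistBy_moved (extend_mul α β) hne))

end Cover

end Cfsg.Agent.H36.GUTwo
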