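import Cfsg.Agent.H36.GUTwo.Base

/-!
# Tori, classes and class sums of a group covered by `Gam`
-/

set_option autoImplicit false
set_option linter.unusedSectionVars false
set_option linter.style.haveILetI false

namespace Cfsg.Agent.H36.GUTwo

open Matrix Finset Cfsg.Agent.H53 Cfsg.Agent.H3.SDOrder Cfsg.Agent.H36.TwoTori

universe v

variable {F : Type v} [Field F] [Fintype F] [DecidableEq F] {δ : F} {hδ : ¬ IsSquare δ}

local notation "G2" => Matrix.GeneralLinearGroup (Fin 2) F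
local notation "M2" => Matrix (Fin 2) (Fin 2) F
local notation "Kx" => (Quad δ)ˣ

/-- A group covered by `Gam` with kernel `deltaHom`. -/
structure Cover (hδ : ¬ IsSquare δ) (H : Type v) [Group H] where
  π : Gam hδ →* H
  surj : Function.Surjective π
  ker_eq : π.ker = (deltaHom hδ).range

theorem sum_comp_hom {G K : Type v} [Group G] [Fintype G] [Group K] [Fintype K] (f : G →* K)
    (hf : Function.Surjective f) (φ : K → ℂ) :
    ∑ g : G, φ (f g) = (Nat.card f.ker : ℂ) * ∑ k : K, φ k := by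
  classical
  rw [← sum_fiberwise univ f, mul_sum]
  refine sum_congr rfl fun k _ => ?_
  rw [sum_congr rfl (g := fun _ => φ k) (fun g hg => by rw [(mem_filter.1 hg).2]), sum_const,
    nsmul_eq_mul]
  congr 2
  obtain ⟨g₀, rfl⟩ := hf k
  rw [Nat.card_eq_fintype_card, Fintype.card_subtype]
  refine Finset.card_equiv (Equiv.mulRight g₀⁻¹) fun g => ?_
  simp [MonoidHom.mem_ker, mul_inv_eq_one]

theorem det_conj (P g : G2) : Matrix.GeneralLinearGroup.det (P * g * P⁻¹) =
    Matrix.GeneralLinearGroup.det g := by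
  rw [map_mul, map_mul, map_inv, mul_right_comm, mul_inv_cancel, one_mul]

theorem exists_lift (hδ : ¬ IsSquare δ) (g : G2) : ∃ l : Kx, (l, g) ∈ Gam hδ := by
  obtain ⟨l, hl⟩ := normHom_surjective hδ (Matrix.GeneralLinearGroup.det g)⁻¹
  exact ⟨l, by rw [mem_Gam, hl, inv_mul_cancel]⟩

theorem mem_scal_mul {e : Kx} {g : G2} (he : normHom hδ e = 1)
    (hg : Matrix.GeneralLinearGroup.det g = 1) : (e, g) ∈ Gam hδ := by
  rw [mem_Gam, he, hg, one_mul]

/-- The map to the split-looking torus. -/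
noncomputable def sHom (hδ : ¬ IsSquare δ) : Kx →* Gam hδ :=
  (((invMonoidHom : Kx →* Kx).comp conjUnit).prod
    (splitHom.comp ((normHom hδ).prod 1))).codRestrict _ fun y => by
    show normHom hδ (conjUnit y)⁻¹ *
      Matrix.GeneralLinearGroup.det (splitHom (normHom hδ y, 1) : G2) = 1
    rw [map_inv, normHom_conj, det_splitHom, mul_one, inv_mul_cancel]

theorem coe_sHom (y : Kx) :
    (sHom hδ y : Kx × G2) = ((conjUnit y)⁻¹, splitHom (normHom hδ y, 1)) := rfl

namespace Cover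

variable {H : Type v} [Group H] (C : Cover hδ H)

theorem pi_eq_iff {x y : Gam hδ} : C.π x = C.π y ↔ ∃ a, y = x * deltaHom hδ a := by
  rw [eq_comm, MonoidHom.eq_iff, C.ker_eq, MonoidHom.mem_range]
  refine exists_congr fun a => ⟨fun h => ?_, fun h => ?_⟩
  · rw [h, mul_inv_cancel_left]
  · rw [h, inv_mul_cancel_left]

theorem pi_eq_one {x : Gam hδ} : C.π x = 1 ↔ ∃ a, x = deltaHom hδ a := by
  rw [← MonoidHom.mem_ker, C.ker_eq, MonoidHom.mem_range]
  exact exists_congr fun a => eq_comm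

theorem pi_congr {l l' : Kx} {g g' : G2} (hm : (l, g) ∈ Gam hδ) (hm' : (l', g') ∈ Gam hδ) (a : Fˣ)
    (hl : l' = l * scalUnit a⁻¹) (hg : g' = g * scalarGL a) :
    C.π ⟨(l', g'), hm'⟩ = C.π ⟨(l, g), hm⟩ :=
  (C.pi_eq_iff.2 ⟨a, Subtype.ext (Prod.ext hl hg)⟩).symm

theorem isConj_pi {l : Kx} {g g' : G2} (hm : (l, g) ∈ Gam hδ) (hm' : (l, g') ∈ Gam hδ)
    (h : IsConj g g') : IsConj (C.π ⟨(l, g), hm⟩) (C.π ⟨(l, g'), hm'⟩) := by
  obtain ⟨P, hP⟩ := isConj_iff.1 h
  obtain ⟨l₀, hl₀⟩ := exists_lift hδ P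
  refine isConj_iff.2 ⟨C.π ⟨(l₀, P), hl₀⟩, ?_⟩
  rw [← map_inv, ← map_mul, ← map_mul]
  congr 1
  exact Subtype.ext (Prod.ext (by
    show l₀ * l * l₀⁻¹ = l
    rw [mul_comm l₀, mul_inv_cancel_right]) hP)

/-- The anisotropic torus. -/
noncomputable def T : NOne hδ × NOne hδ →* H :=
  (eig hδ).liftOfRightInverse (Function.surjInv (eig_surjective hδ))
    (Function.rightInverse_surjInv (eig_surjective hδ)) ⟨C.π.comp (domHom hδ), fun x hx => by
      obtain ⟨a, ha⟩ := eig_ker hδ hx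
      exact C.pi_eq_one.2 ⟨a, ha⟩⟩

theorem T_eig (x : Dom hδ) : C.T (eig hδ x) = C.π (domHom hδ x) :=
  MonoidHom.liftOfRightInverse_comp_apply _ _ _ _ x

/-- The split-looking torus. -/
noncomputable def S : Kx →* H := C.π.comp (sHom hδ)

theorem T_diag (e : NOne hδ) :
    C.T (e, e) = C.π ⟨((e : Kx), 1), mem_scal_mul (norm_one hδ e) (map_one _)⟩ := by
  have hm : ((e : Kx), (1 : Kx)) ∈ Dom hδ := by rw [mem_Dom, norm_one hδ e, map_one, one_mul]
  have h1 : eig hδ ⟨_, hm⟩ = (e, e) := by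
    refine Prod.ext (Subtype.ext ?_) (Subtype.ext ?_)
    · rw [eig_fst]; exact mul_one _
    · rw [eig_snd]; simp
  rw [← h1, T_eig]
  congr 1
  exact Subtype.ext (Prod.ext rfl (show torusHom hδ (1 : Kx) = 1 from map_one _))

/-- The transvection. -/
noncomputable def uni : H := C.π ⟨(1, uGL), mem_scal_mul (map_one _) det_uGL⟩

theorem T_diag_uni (e : NOne hδ) :
    C.T (e, e) * C.uni = C.π ⟨((e : Kx), uGL), mem_scal_mul (norm_one hδ e) det_uGL⟩ := by
  rw [C.T_diag, uni, ← map_mul]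
  congr 1
  exact Subtype.ext (Prod.ext (mul_one _) (one_mul _))

theorem T_injective : Function.Injective C.T := by
  refine (injective_iff_map_eq_one _).2 fun p hp => ?_
  obtain ⟨x, rfl⟩ := eig_surjective hδ p
  rw [T_eig, pi_eq_one] at hp
  obtain ⟨a, ha⟩ := hp
  have h1 : (x : Kx × Kx).1 = scalUnit a⁻¹ := congrArg (fun z : Gam hδ => (z : Kx × G2).1) ha
  have h2 : torusHom hδ (x : Kx × Kx).2 = scalarGL a :=
    congrArg (fun z : Gam hδ => (z : Kx × G2).2) ha
  rw [← torusHom_scalUnit hδ] at h2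
  have h2' := torusHom_injective hδ h2
  refine Prod.ext (Subtype.ext ?_) (Subtype.ext ?_)
  · rw [eig_fst, h1, h2', map_inv, inv_mul_cancel]; rfl
  · rw [eig_snd, h1, h2', conj_scal, map_inv, inv_mul_cancel]; rfl

theorem S_injective : Function.Injective C.S := by
  refine (injective_iff_map_eq_one _).2 fun y hy => ?_
  rw [S, MonoidHom.comp_apply, pi_eq_one] at hy
  obtain ⟨a, ha⟩ := hy
  have h1 : (conjUnit y)⁻¹ = scalUnit a⁻¹ := congrArg (fun z : Gam hδ => (z : Kx × G2).1) ha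
  have h2 : (splitHom (normHom hδ y, 1) : G2) = scalarGL a :=
    congrArg (fun z : Gam hδ => (z : Kx × G2).2) ha
  rw [← splitHom_diag] at h2
  have h3 := (Prod.ext_iff.1 (splitHom_inj hδ h2)).2
  rw [← show (1 : Fˣ) = a from h3, inv_one, map_one, inv_eq_one] at h1
  rw [← conj_conj y, h1, map_one]

theorem S_incl (e : NOne hδ) : C.S e = C.T (e, e) := by
  rw [T_diag, S, MonoidHom.comp_apply]
  congr 1
  refine Subtype.ext (Prod.ext ?_ ?_)
  · show (conjUnit (e : Kx))⁻¹ = e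
    rw [conj_nOne hδ, inv_inv]
  · show (splitHom (normHom hδ (e : Kx), 1) : G2) = 1
    rw [norm_one hδ e]; exact map_one splitHom

theorem T_center (e : NOne hδ) : C.T (e, e) ∈ Subgroup.center H := by
  rw [Subgroup.mem_center_iff, T_diag]
  intro h
  obtain ⟨x, rfl⟩ := C.surj h
  rw [← map_mul, ← map_mul]
  congr 1
  exact Subtype.ext (Prod.ext (mul_comm _ _) (Commute.one_right _).eq)

theorem center_le {h : H} (hh : h ∈ Subgroup.center H) : ∃ e, C.T (e, e) = h := by
  obtain ⟨⟨⟨l, g⟩, hx⟩, rfl⟩ := C.surj h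
  have hg : g ∈ Subgroup.center G2 := by
    refine Subgroup.mem_center_iff.2 fun P => ?_
    obtain ⟨l₀, hl₀⟩ := exists_lift hδ P
    have hc := Subgroup.mem_center_iff.1 hh (C.π ⟨(l₀, P), hl₀⟩)
    rw [← map_mul, ← map_mul, pi_eq_iff] at hc
    obtain ⟨a, ha⟩ := hc
    have h1 : l * l₀ = l₀ * l * scalUnit a⁻¹ := congrArg (fun z : Gam hδ => (z : Kx × G2).1) ha
    have h2 : g * P = P * g * scalarGL a := congrArg (fun z : Gam hδ => (z : Kx × G2).2) ha
    rw [mul_comm l l₀, left_eq_mul, map_inv, inv_eq_one,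
      map_eq_one_iff _ (scalUnit_injective (δ := δ))] at h1
    rw [h1, show (scalarGL 1 : G2) = 1 from map_one scalarHom, mul_one] at h2
    exact h2.symm
  obtain ⟨a, rfl⟩ := exists_scalar_of_central hg
  have he : l * scalUnit a ∈ NOne hδ := by
    rw [MonoidHom.mem_ker, map_mul, normHom_scal, ← det_scalarGL]; exact hx
  refine ⟨⟨_, he⟩, ?_⟩
  rw [T_diag]
  exact C.pi_congr hx _ a⁻¹ (by rw [inv_inv]) (by
    rw [← show (scalarHom a : G2) = scalarGL a from rfl,
      ← show (scalarHom a⁻¹ : G2) = scalarGL a⁻¹ from rfl, ← map_mul, mul_inv_cancel, map_one])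

theorem uni_ne : C.uni ≠ 1 := by
  rw [uni, Ne, pi_eq_one]
  rintro ⟨a, ha⟩
  have h2 : (uGL : G2) = scalarGL a := congrArg (fun z : Gam hδ => (z : Kx × G2).2) ha
  have := congrArg (fun g : G2 => (g : M2) 0 1) h2
  simp [uGL, coe_upGL, coe_scalarGL] at this

theorem uni_pow : C.uni ^ (Fintype.card F) = 1 := by
  rw [uni, ← map_pow]
  convert map_one C.π
  refine Subtype.ext (Prod.ext (one_pow _) ?_)
  show (uGL : G2) ^ Fintype.card F = 1
  rw [uGL, upGL_pow, mul_one, FiniteField.cast_card_eq_zero, upGL_one]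

theorem swapT : ∃ w : H, ∀ a b, w * C.T (a, b) * w⁻¹ = C.T (b, a) := by
  obtain ⟨l₀, hl₀⟩ := exists_lift hδ (H3.SDOrder.flip : G2)
  refine ⟨C.π ⟨(l₀, H3.SDOrder.flip), hl₀⟩, fun a b => ?_⟩
  obtain ⟨⟨⟨l, z⟩, hx⟩, hxe⟩ := eig_surjective hδ (a, b)
  have hm : (l, conjUnit z) ∈ Dom hδ := by rw [mem_Dom, normHom_conj]; exact hx
  have he : eig hδ ⟨_, hm⟩ = (b, a) := by
    have e1 := congrArg Prod.fst hxe
    have e2 := congrArg Prod.snd hxe
    refine Prod.ext ?_ ?_
    · refine Eq.trans ?_ e2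
      exact Subtype.ext rfl
    · refine Eq.trans (Subtype.ext ?_) e1
      rw [eig_fst, eig_snd]
      show l * conjUnit (conjUnit z) = l * z
      rw [conj_conj]
  rw [← hxe, ← he, T_eig, T_eig, ← map_inv, ← map_mul, ← map_mul]
  congr 1
  refine Subtype.ext (Prod.ext ?_ ?_)
  · show l₀ * l * l₀⁻¹ = l
    rw [mul_comm l₀, mul_inv_cancel_right]
  · show H3.SDOrder.flip * torusHom hδ z * H3.SDOrder.flip⁻¹ = torusHom hδ (conjUnit z)
    rw [← flip_conj hδ, inv_eq_of_mul_eq_one_right flip_mul_self]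

theorem frobS (y : Kx) : IsConj (C.S y) (C.S (conjUnit y)⁻¹) := by
  have hm : ((conjUnit y)⁻¹, splitHom ((1 : Fˣ), normHom hδ y)) ∈ Gam hδ := by
    rw [mem_Gam, map_inv, normHom_conj, det_splitHom, one_mul, inv_mul_cancel]
  refine IsConj.trans (C.isConj_pi (l := (conjUnit y)⁻¹) _ hm
    (isConj_iff.2 ⟨exch, exch_splitHom _ _⟩)) ?_
  rw [S, MonoidHom.comp_apply]
  refine (isConj_iff.2 ⟨1, ?_⟩).symm
  rw [one_mul, inv_one, mul_one]
  refine C.pi_congr hm _ (normHom hδ y)⁻¹ ?_ ?_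
  · show (conjUnit (conjUnit y)⁻¹)⁻¹ = (conjUnit y)⁻¹ * scalUnit (normHom hδ y)⁻¹⁻¹
    rw [inv_inv, scal_norm hδ, map_inv, inv_inv, conj_conj, mul_comm y, inv_mul_cancel_left]
  · show (splitHom (normHom hδ (conjUnit y)⁻¹, 1) : G2) =
      splitHom (1, normHom hδ y) * scalarGL (normHom hδ y)⁻¹
    rw [map_inv, normHom_conj, ← splitHom_diag, ← map_mul, Prod.mk_mul_mk, one_mul, mul_inv_cancel]

theorem mem_range_incl {y : Kx} : y ∈ (NOne hδ).subtype.range ↔ normHom hδ y = 1 := by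
  rw [Subgroup.range_subtype, MonoidHom.mem_ker]

variable [DecidableEq (MulChar F ℂ)]

theorem classes [Fintype (Quad δ)ˣ] (h : H) : (∃ e, C.T (e, e) = h) ∨
    (∃ e, IsConj (C.T (e, e) * C.uni) h) ∨
    (∃ a b, a ≠ b ∧ IsConj (C.T (a, b)) h) ∨
    ∃ y, y ∉ (NOne hδ).subtype.range ∧ IsConj (C.S y) h := by
  obtain ⟨⟨⟨l, g⟩, hx⟩, rfl⟩ := C.surj h
  rcases gl_classes hδ g with ⟨a, rfl⟩ | ⟨a, hc⟩ | ⟨a, b, hab, hc⟩ | ⟨z, hz, hc⟩
  · left
    have he : l * scalUnit a ∈ NOne hδ := by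
      have h := hx
      rw [mem_Gam, det_splitHom] at h
      rw [MonoidHom.mem_ker, map_mul, normHom_scal]
      exact h
    refine ⟨⟨_, he⟩, ?_⟩
    rw [T_diag]
    exact C.pi_congr hx _ a⁻¹ (by rw [inv_inv]) (by
      rw [← splitHom_diag, ← map_mul, Prod.mk_mul_mk, mul_inv_cancel]
      exact (map_one splitHom).symm)
  · right; left
    obtain ⟨P, hP⟩ := isConj_iff.1 hc
    have hd : Matrix.GeneralLinearGroup.det g = a * a := by
      rw [← hP, det_conj, map_mul, det_uGL, mul_one, det_splitHom]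
    have he : l * scalUnit a ∈ NOne hδ := by
      rw [MonoidHom.mem_ker, map_mul, normHom_scal, ← hd]; exact hx
    refine ⟨⟨_, he⟩, ?_⟩
    rw [T_diag_uni]
    have hm : (l, (splitHom (a, a) : G2) * uGL) ∈ Gam hδ := by
      rw [mem_Gam, map_mul, det_uGL, mul_one, det_splitHom, ← hd]; exact hx
    rw [C.pi_congr hm _ a⁻¹ (by rw [inv_inv]) (by
      rw [mul_assoc, mul_scalarGL_comm, ← mul_assoc, ← splitHom_diag, ← map_mul, Prod.mk_mul_mk,
        mul_inv_cancel, show ((1 : Fˣ), (1 : Fˣ)) = 1 from rfl, map_one, one_mul])]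
    exact C.isConj_pi hm hx hc
  · right; right; right
    obtain ⟨P, hP⟩ := isConj_iff.1 hc
    have hd : Matrix.GeneralLinearGroup.det g = a * b := by rw [← hP, det_conj, det_splitHom]
    have hN : normHom hδ (l * scalUnit a) = a * b⁻¹ := by
      rw [map_mul, normHom_scal, eq_inv_of_mul_eq_one_left (show normHom hδ l * (a * b) = 1 by
        rw [← hd]; exact hx)]
      rw [_root_.mul_inv, mul_comm a⁻¹, mul_assoc, inv_mul_cancel_left, mul_comm]
    refine ⟨l * scalUnit a, fun hr => hab ?_, ?_⟩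
    · rw [mem_range_incl, hN] at hr
      exact mul_inv_eq_one.1 hr
    · have hm : (l, (splitHom (a, b) : G2)) ∈ Gam hδ := by rw [mem_Gam, det_splitHom, ← hd]; exact hx
      rw [S, MonoidHom.comp_apply]
      have e : sHom hδ (l * scalUnit a) =
          ⟨(l, splitHom (a, b)), hm⟩ * deltaHom hδ b⁻¹ := by
        refine Subtype.ext (Prod.ext ?_ ?_)
        · show (conjUnit (l * scalUnit a))⁻¹ = l * scalUnit b⁻¹⁻¹
          refine inv_eq_of_mul_eq_one_right ?_
          rw [inv_inv, map_mul, conj_scal,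
            show conjUnit l * scalUnit a * (l * scalUnit b) =
              (l * conjUnit l) * (scalUnit a * scalUnit b) by ac_rfl,
            ← scal_norm hδ, ← map_mul, ← map_mul, ← hd]
          rw [show normHom hδ l * Matrix.GeneralLinearGroup.det g = 1 from hx, map_one]
        · show (splitHom (normHom hδ (l * scalUnit a), 1) : G2) =
            splitHom (a, b) * scalarGL b⁻¹
          rw [← splitHom_diag, ← map_mul, Prod.mk_mul_mk, mul_inv_cancel, hN]
      rw [(C.pi_eq_iff (x := ⟨(l, splitHom (a, b)), hm⟩)).2 ⟨b⁻¹, e⟩ |>.symm]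
      exact C.isConj_pi hm hx hc
  · right; right; left
    obtain ⟨P, hP⟩ := isConj_iff.1 hc
    have hm : (l, z) ∈ Dom hδ := by
      have h := hx
      rw [mem_Gam, ← hP, det_conj, det_torusHom] at h
      exact h
    refine ⟨_, _, fun he => hz ?_, (C.T_eig ⟨_, hm⟩) ▸ C.isConj_pi (g := torusHom hδ z) hm hx hc⟩
    have h1 := mul_left_cancel (congrArg Subtype.val he)
    rw [← normA_ker hδ, MonoidHom.mem_ker, Subtype.ext_iff, coe_normA, Subgroup.coe_one, div_eq_one]
    exact h1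

variable [Fintype (Quad δ)ˣ] [Fintype H]

open scoped Classical in
set_option maxHeartbeats 1000000 in
theorem sum_eq (f : H → ℂ) (hf : Cfsg.IsClassFunction H f) :
    ∑ x : H, f x = ∑ e : NOne hδ, (f (C.T (e, e)) +
        (((-(Fintype.card F : ℤ) : ℤ) : ℂ) ^ 2 - 1) * f (C.T (e, e) * C.uni)) +
      ((-(Fintype.card F : ℤ) : ℤ) : ℂ) * (((-(Fintype.card F : ℤ) : ℤ) : ℂ) + 1) / 2 *
        (∑ p : NOne hδ × NOne hδ, if p.1 = p.2 then 0 else f (C.T p)) +
      ((-(Fintype.card F : ℤ) : ℤ) : ℂ) * (((-(Fintype.card F : ℤ) : ℤ) : ℂ) - 1) / 2 *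
        (∑ y : Kx, if y ∈ (NOne hδ).subtype.range then 0 else f (C.S y)) := by
  let ext : Kx × G2 → ℂ := fun p => if h : p ∈ Gam hδ then f (C.π ⟨p, h⟩) else 0
  let Φ : G2 → ℂ := fun g => ∑ l : Kx, ext (l, g)
  have hΦ : Cfsg.IsClassFunction G2 Φ := by
    intro g P
    refine sum_congr rfl fun l _ => ?_
    have hiff : (l, P * g * P⁻¹) ∈ Gam hδ ↔ (l, g) ∈ Gam hδ := by
      rw [mem_Gam, mem_Gam, det_conj]
    simp only [ext]
    by_cases h : (l, g) ∈ Gam hδ
    · rw [dif_pos h, dif_pos (hiff.2 h)]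
      obtain ⟨x, hx⟩ := isConj_iff.1 (C.isConj_pi h (hiff.2 h) (isConj_iff.2 ⟨P, rfl⟩))
      rw [← hx, hf]
    · rw [dif_neg h, dif_neg (hiff.not.2 h)]
  have hker : (Nat.card C.π.ker : ℂ) = (Fintype.card F : ℂ) - 1 := by
    rw [C.ker_eq, ← Nat.card_congr (MonoidHom.ofInjective (deltaHom_injective hδ)).toEquiv,
      Nat.card_eq_fintype_card, Fintype.card_units, Nat.cast_sub Fintype.card_pos, Nat.cast_one]
  have hq1 : (Fintype.card F : ℂ) - 1 ≠ 0 := by
    rw [sub_ne_zero, Nat.cast_ne_one]; exact Fintype.one_lt_card.ne'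
  have htot : ((Fintype.card F : ℂ) - 1) * ∑ x : H, f x = ∑ g : G2, Φ g := by
    rw [← hker, ← sum_comp_hom C.π C.surj f]
    simp only [Φ]
    rw [sum_comm, ← Fintype.sum_prod_type' (f := fun l g => ext (l, g)),
      ← sum_subset (subset_univ (univ.filter (· ∈ Gam hδ)))
        (fun p _ hp => dif_neg (fun h => hp (mem_filter.2 ⟨mem_univ _, h⟩))),
      sum_subtype (p := (· ∈ Gam hδ)) _ (by simp)]
    exact sum_congr rfl fun x _ => by dsimp only [ext]; rw [dif_pos x.2]
  -- the centre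
  have hsub : ∀ φ : NOne hδ → ℂ,
      ∑ e, φ e = ∑ e : Kx, if h : e ∈ NOne hδ then φ ⟨e, h⟩ else 0 := fun φ => by
    rw [← sum_subset (subset_univ (univ.filter (· ∈ NOne hδ)))
        (fun p _ hp => dif_neg (fun h => hp (mem_filter.2 ⟨mem_univ _, h⟩))),
      sum_subtype (p := (· ∈ NOne hδ)) _ (by simp)]
    exact sum_congr rfl fun x _ => by rw [dif_pos x.2]
  have hcen : ∀ (g₀ : G2) (hg₀ : Matrix.GeneralLinearGroup.det g₀ = 1) (a : Fˣ),
      Φ (splitHom (a, a) * g₀) =
        ∑ e : NOne hδ, f (C.π ⟨((e : Kx), g₀), mem_scal_mul (norm_one hδ e) hg₀⟩) := by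
    intro g₀ hg₀ a
    rw [hsub, show Φ (splitHom (a, a) * g₀) = ∑ l, ext (l, splitHom (a, a) * g₀) from rfl,
      ← Equiv.sum_comp (Equiv.mulRight (scalUnit a)⁻¹)]
    refine sum_congr rfl fun l _ => ?_
    rw [Equiv.coe_mulRight]
    have hiff : (l * (scalUnit a)⁻¹, (splitHom (a, a) : G2) * g₀) ∈ Gam hδ ↔ l ∈ NOne hδ := by
      rw [mem_Gam, MonoidHom.mem_ker, map_mul, map_mul, map_inv, hg₀, det_splitHom, normHom_scal,
        mul_one, inv_mul_cancel_right]
    simp only [ext]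
    by_cases h : l ∈ NOne hδ
    · rw [dif_pos (hiff.2 h), dif_pos h]
      refine congrArg f (C.pi_congr (hiff.2 h) _ a⁻¹
        (by rw [inv_inv, inv_mul_cancel_right]) ?_).symm
      rw [mul_assoc, mul_scalarGL_comm, ← mul_assoc, ← splitHom_diag, ← map_mul, Prod.mk_mul_mk,
        mul_inv_cancel, show ((1 : Fˣ), (1 : Fˣ)) = 1 from rfl, map_one, one_mul]
    · rw [dif_neg (hiff.not.2 h), dif_neg h]
  -- the split classes
  have hspl : ∀ b : Fˣ, (∑ a : Fˣ, if a = b then 0 else Φ (splitHom (a, b))) =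
      ∑ y : Kx, if y ∈ (NOne hδ).subtype.range then 0 else f (C.S y) := by
    intro b
    let σ : Kx ≃ Kx := ((Function.Involutive.toPerm (conjUnit : Kx → Kx) conj_conj).trans
      (Equiv.inv Kx)).trans (Equiv.mulRight (scalUnit b⁻¹))
    have hσ : ∀ y, σ y = (conjUnit y)⁻¹ * scalUnit b⁻¹ := fun y => rfl
    simp only [Φ]
    rw [sum_congr rfl fun a _ => show (if a = b then (0 : ℂ) else ∑ l, ext (l, splitHom (a, b))) =
      ∑ y, if a = b then 0 else ext (σ y, splitHom (a, b)) by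
        by_cases h : a = b
        · simp [h]
        · simp only [if_neg h]; exact (Equiv.sum_comp σ _).symm, sum_comm]
    refine sum_congr rfl fun y _ => ?_
    have hmem : ∀ a, (σ y, (splitHom (a, b) : G2)) ∈ Gam hδ ↔ a = normHom hδ y * b := fun a => by
      rw [mem_Gam, hσ, map_mul, normHom_scal, map_inv, normHom_conj, det_splitHom,
        show (normHom hδ y)⁻¹ * (b⁻¹ * b⁻¹) * (a * b) = (normHom hδ y * b)⁻¹ * a * (b⁻¹ * b) by
          rw [mul_inv]; simp only [mul_assoc, mul_comm, mul_left_comm],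
        inv_mul_cancel, mul_one, inv_mul_eq_one]
      exact eq_comm
    rw [sum_eq_single (normHom hδ y * b) (fun a _ ha => ?_) (fun h => absurd (mem_univ _) h)]
    · have hh := (hmem _).2 rfl
      have hr : y ∈ (NOne hδ).subtype.range ↔ normHom hδ y * b = b := by
        rw [mem_range_incl, mul_eq_right]
      by_cases hy : normHom hδ y * b = b
      · rw [if_pos hy, if_pos (hr.2 hy)]
      · rw [if_neg hy, if_neg (hr.not.2 hy)]
        simp only [ext]
        rw [dif_pos hh]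
        refine congrArg f (C.pi_congr hh _ b⁻¹ ?_ ?_).symm
        · show (conjUnit y)⁻¹ = σ y * scalUnit b⁻¹⁻¹
          rw [hσ, map_inv scalUnit b⁻¹, mul_inv_cancel_right]
        · show (splitHom (normHom hδ y, 1) : G2) = splitHom (normHom hδ y * b, b) * scalarGL b⁻¹
          rw [← splitHom_diag, ← map_mul, Prod.mk_mul_mk, mul_inv_cancel_right, mul_inv_cancel]
    · simp only [ext, dif_neg ((hmem a).not.2 ha), ite_self]
  -- the anisotropic classes
  have hell : (∑ z : Kx, if z ∈ (scalUnit : Fˣ →* Kx).range then 0 else Φ (torusHom hδ z)) =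
      ((Fintype.card F : ℂ) - 1) *
        ∑ p : NOne hδ × NOne hδ, if p.1 = p.2 then 0 else f (C.T p) := by
    have hk : (Nat.card (eig hδ).ker : ℂ) = (Fintype.card F : ℂ) - 1 := by
      have hb : Function.Bijective (fun a : Fˣ =>
          (⟨⟨(scalUnit a⁻¹, scalUnit a), by
            rw [mem_Dom, normHom_scal, normHom_scal, mul_mul_mul_comm, inv_mul_cancel, one_mul]⟩, by
            refine Prod.ext (Subtype.ext ?_) (Subtype.ext ?_)
            · show scalUnit a⁻¹ * scalUnit a = 1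
              rw [← map_mul, inv_mul_cancel, map_one]
            · show scalUnit a⁻¹ * conjUnit (scalUnit a) = 1
              rw [conj_scal, ← map_mul, inv_mul_cancel, map_one]⟩ : (eig hδ).ker)) := by
        refine ⟨fun a b h => ?_, fun x => ?_⟩
        · exact scalUnit_injective (congrArg (fun z : (eig hδ).ker => ((z : Dom hδ) : Kx × Kx).2) h)
        · obtain ⟨a, ha⟩ := eig_ker hδ x.2
          refine ⟨a, Subtype.ext (Subtype.ext (Prod.ext ?_ ?_))⟩
          · exact (congrArg (fun z : Gam hδ => (z : Kx × G2).1) ha).symm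
          · refine torusHom_injective hδ ?_
            rw [torusHom_scalUnit]
            exact (congrArg (fun z : Gam hδ => (z : Kx × G2).2) ha).symm
      rw [← Nat.card_eq_of_bijective _ hb, Nat.card_eq_fintype_card, Fintype.card_units,
        Nat.cast_sub Fintype.card_pos, Nat.cast_one]
    rw [← hk, ← sum_comp_hom (eig hδ) (eig_surjective hδ)]
    simp only [Φ]
    rw [sum_congr rfl fun z _ => show (if z ∈ (scalUnit : Fˣ →* Kx).range then (0 : ℂ)
      else ∑ l, ext (l, torusHom hδ z)) =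
      ∑ l, if z ∈ (scalUnit : Fˣ →* Kx).range then 0 else ext (l, torusHom hδ z) by
        split_ifs <;> simp, sum_comm,
      ← Fintype.sum_prod_type' (f := fun l z => if z ∈ (scalUnit : Fˣ →* Kx).range then (0 : ℂ)
        else ext (l, torusHom hδ z)),
      ← sum_subset (subset_univ (univ.filter (· ∈ Dom hδ))) (fun p _ hp => by
        split_ifs
        · rfl
        · exact dif_neg (fun h => hp (mem_filter.2 ⟨mem_univ _, h⟩))),
      sum_subtype (p := (· ∈ Dom hδ)) _ (by simp)]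
    refine sum_congr rfl fun x _ => ?_
    have hr : (x : Kx × Kx).2 ∈ (scalUnit : Fˣ →* Kx).range ↔ (eig hδ x).1 = (eig hδ x).2 := by
      rw [← normA_ker hδ, MonoidHom.mem_ker, Subtype.ext_iff, coe_normA, Subgroup.coe_one,
        div_eq_one, Subtype.ext_iff, eig_fst, eig_snd]
      exact (mul_right_inj _).symm
    by_cases h : (eig hδ x).1 = (eig hδ x).2
    · rw [if_pos h, if_pos (hr.2 h)]
    · rw [if_neg h, if_neg (hr.not.2 h), C.T_eig]
      exact dif_pos x.2
  -- assembly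
  have h := gl_sum_eq hδ Φ hΦ
  rw [← htot] at h
  have hc1 : ∀ a : Fˣ, Φ (splitHom (a, a)) = ∑ e : NOne hδ, f (C.T (e, e)) := fun a => by
    have h1 := hcen 1 (map_one _) a
    rw [mul_one] at h1
    simp only [C.T_diag]
    exact h1
  have hc2 : ∀ a : Fˣ, Φ (splitHom (a, a) * uGL) = ∑ e : NOne hδ, f (C.T (e, e) * C.uni) :=
    fun a => by simp only [C.T_diag_uni]; exact hcen _ det_uGL a
  rw [Fintype.sum_prod_type_right (f := fun p : Fˣ × Fˣ =>
    if p.1 = p.2 then 0 else Φ (splitHom p))] at h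
  rw [sum_congr rfl fun b _ => hspl b, hell] at h
  simp only [hc1, hc2, sum_const, card_univ, Fintype.card_units, nsmul_eq_mul,
    Nat.cast_sub (Fintype.card_pos (α := F)), Nat.cast_one, Int.cast_natCast] at h
  simp only [sum_add_distrib, ← mul_sum]
  apply mul_left_cancel₀ hq1
  push_cast
  rw [h]
  ring

end Cover

end Cfsg.Agent.H36.GUTwo
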