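import Cfsg.Agent.H36.GUTwo.Table
import Cfsg.Agent.H68.UThree.Model.Matrix
import Cfsg.Agent.Unitary.Order

/-!
# The unitary group `GU₂(q)` is covered by `Gam`
-/

set_option autoImplicit false
set_option linter.unusedSectionVars false
set_option linter.style.haveILetI false

namespace Cfsg.Agent.H36.GUTwo

open Matrix Cfsg.Agent.H3.SDOrder Cfsg.Agent.H36.TwoTori Cfsg.Agent.Unitary
open Cfsg.Agent.H68.UThree.Model Cfsg.Agent.H53

universe v

variable {K : Type v} [Field K] [Fintype K] {q : ℕ}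

/-- A field with `q` elements inside one with `q ^ 2`, and the square root of a nonsquare. -/
theorem exists_sub (hK : Fintype.card K = q ^ 2) (hq : Odd q) :
    ∃ (F : Type v) (_ : Field F) (_ : Fintype F) (_ : DecidableEq F) (δ : F) (f : F →+* K) (s : K),
      ¬ IsSquare δ ∧ Fintype.card F = q ∧ (∀ a, (f a) ^ q = f a) ∧ s * s = f δ ∧ s ^ q = -s := by
  classical
  let S : Subfield K := RingHom.eqLocusField (frob hK : K →+* K) (RingHom.id K)
  have hS : ∀ {x : K}, x ∈ S ↔ x ^ q = x := Iff.rfl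
  have h2q := two_le_q hK
  let e : Sˣ ≃ (powMonoidHom (q - 1) : Kˣ →* Kˣ).ker :=
    { toFun := fun x => ⟨Units.map (S.subtype : S →* K) x, by
        refine Units.ext ?_
        simpa using pow_sub_one_eq_one hK (fun h => x.ne_zero (Subtype.ext h)) (hS.1 (x : S).2)⟩
      invFun := fun u => Units.mk0 ⟨((u : Kˣ) : K), hS.2 (by
          have h := congrArg Units.val (MonoidHom.mem_ker.1 u.2)
          rw [powMonoidHom_apply, Units.val_pow_eq_pow_val, Units.val_one] at h
          calc ((u : Kˣ) : K) ^ q = ((u : Kˣ) : K) ^ (q - 1 + 1) := by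
                rw [Nat.sub_add_cancel (show 1 ≤ q by omega)]
            _ = _ := by rw [pow_succ, h, one_mul])⟩
        (fun h => (u : Kˣ).ne_zero (congrArg Subtype.val h))
      left_inv := fun x => Units.ext (Subtype.ext rfl)
      right_inv := fun u => Subtype.ext (Units.ext rfl) }
  haveI : Fintype S := Fintype.ofFinite _
  have hSc : Fintype.card S = q := by
    have h := Nat.card_congr e
    rw [card_ker_pow_sub hK, Nat.card_units, Nat.card_eq_fintype_card] at h
    have := Fintype.card_pos (α := S)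
    omega
  have hS2 : ringChar S ≠ 2 := fun h => by
    have := FiniteField.even_card_of_char_two h
    rw [hSc] at this
    exact Nat.not_even_iff_odd.2 hq (Nat.even_iff.2 this)
  obtain ⟨δ, hδ⟩ := FiniteField.exists_nonsquare hS2
  have hδ0 : (δ : K) ≠ 0 := fun h => hδ ⟨0, by simpa using Subtype.ext h⟩
  obtain ⟨s, hs⟩ : IsSquare (δ : K) := by
    refine (FiniteField.isSquare_iff (fun h => hS2 ?_) hδ0).2 ?_
    · exact (Algebra.ringChar_eq S K).trans h
    · obtain ⟨k, hk⟩ := hq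
      have hd : Fintype.card K / 2 = (q - 1) * (k + 1) := by
        rw [hK, hk, Nat.add_sub_cancel]
        refine Nat.div_eq_of_lt_le ?_ ?_ <;> nlinarith
      rw [hd, pow_mul, pow_sub_one_eq_one hK hδ0 (hS.1 δ.2), one_pow]
  refine ⟨S, inferInstance, inferInstance, inferInstance, δ, S.subtype, s, hδ, hSc, fun a => hS.1 a.2,
    hs.symm, ?_⟩
  have hsq : s ^ q * s ^ q = s * s := by rw [← mul_pow, ← hs, hS.1 δ.2]
  refine (mul_self_eq_mul_self_iff.1 hsq).resolve_left fun h => hδ ⟨⟨s, hS.2 h⟩, Subtype.ext hs⟩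

variable {F : Type v} [Field F] {δ : F} (hδ : ¬ IsSquare δ) (f : F →+* K) (s : K) (hs : s * s = f δ)

/-- The extension to the quadratic algebra. -/
noncomputable def eps : Quad δ →+* K where
  toFun z := f z.re + f z.im * s
  map_one' := by simp [QuadraticAlgebra.re_one, QuadraticAlgebra.im_one]
  map_zero' := by simp [QuadraticAlgebra.re_zero, QuadraticAlgebra.im_zero]
  map_add' x y := by simp; ring
  map_mul' x y := by simp; linear_combination (-(f x.im * f y.im)) * hs

theorem eps_scal (a : Fˣ) : eps f s hs ((scalUnit a : (Quad δ)ˣ) : Quad δ) = f a := by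
  simp [eps, re_scalUnit, im_scalUnit]

theorem eps_conj [Fintype F] (hK : Fintype.card K = q ^ 2) (hf : ∀ a, (f a) ^ q = f a)
    (hsq : s ^ q = -s) (z : (Quad δ)ˣ) :
    (eps f s hs (z : Quad δ)) ^ q = eps f s hs ((conjUnit z : (Quad δ)ˣ) : Quad δ) := by
  simp only [eps, RingHom.coe_mk, MonoidHom.coe_mk, OneHom.coe_mk, re_conjUnit, im_conjUnit,
    add_pow_q hK, mul_pow, hf, hsq, map_neg]
  ring

/-- The matrix in isotropic coordinates. -/
noncomputable def isoMat (x : (Quad δ)ˣ × Matrix.GeneralLinearGroup (Fin 2) F) :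
    Matrix (Fin 2) (Fin 2) K :=
  let l := eps f s hs (x.1 : Quad δ)
  let g := (x.2 : Matrix (Fin 2) (Fin 2) F)
  !![l * f (g 0 0), l * f (g 0 1) * s⁻¹; l * s * f (g 1 0), l * f (g 1 1)]

variable [Fintype F] [DecidableEq F]

include hδ hs in
theorem s_ne : s ≠ 0 := fun h => hδ ⟨0, f.injective (by rw [← hs, h]; simp)⟩

include hδ in
theorem isoMat_mul (x y : (Quad δ)ˣ × Matrix.GeneralLinearGroup (Fin 2) F) :
    isoMat f s hs (x * y) = isoMat f s hs x * isoMat f s hs y := by
  have := s_ne hδ f s hs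
  simp only [isoMat, Prod.fst_mul, Prod.snd_mul, Units.val_mul, map_mul, Linear.mul_two_apply,
    map_add, Matrix.mul_fin_two, fin_two_inj]
  refine ⟨?_, ?_, ?_, ?_⟩ <;> field_simp <;> ring

theorem isoMat_one : isoMat f s hs (1 : (Quad δ)ˣ × Matrix.GeneralLinearGroup (Fin 2) F) = 1 := by
  simp [isoMat, Matrix.one_fin_two]

include hδ in
theorem isoP_isoMat (hK : Fintype.card K = q ^ 2) (hf : ∀ a, (f a) ^ q = f a) (hsq : s ^ q = -s)
    (x : Gam hδ) :
    IsoP q (isoMat f s hs (x : (Quad δ)ˣ × Matrix.GeneralLinearGroup (Fin 2) F)) := by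
  have hne := s_ne hδ f s hs
  obtain ⟨⟨l, g⟩, hx⟩ := x
  have hN : eps f s hs (l : Quad δ) * eps f s hs ((conjUnit l : (Quad δ)ˣ) : Quad δ) *
      (f ((g : Matrix (Fin 2) (Fin 2) F) 0 0) * f ((g : Matrix (Fin 2) (Fin 2) F) 1 1) -
        f ((g : Matrix (Fin 2) (Fin 2) F) 0 1) * f ((g : Matrix (Fin 2) (Fin 2) F) 1 0)) = 1 := by
    have h1 := congrArg (fun u : Fˣ => f (u : F)) ((mem_Gam hδ).1 hx)
    simp only [Units.val_mul, map_mul, Units.val_one, map_one,
      Matrix.GeneralLinearGroup.val_det_apply, Matrix.det_fin_two, map_sub] at h1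
    rw [← eps_scal f s hs, scal_norm hδ, Units.val_mul, map_mul] at h1
    exact h1
  simp only [isoMat]
  rw [isoP_fin_two]
  simp only [mul_pow, inv_pow, hf, hsq, eps_conj f s hs hK hf hsq, inv_neg]
  refine ⟨?_, ?_, ?_, ?_⟩
  · ring
  · field_simp
    linear_combination hN
  · field_simp
    linear_combination hN
  · ring

/-- The map onto the unitary group. -/
noncomputable def toGUHom (hK : Fintype.card K = q ^ 2) (hq : Odd q) (hf : ∀ a, (f a) ^ q = f a)
    (hsq : s ^ q = -s) : Gam hδ →* Cfsg.GU 2 K q where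
  toFun x := toGU hK ((preserves_toON hK hq).2 (isoP_isoMat hδ f s hs hK hf hsq x))
  map_one' := Subtype.ext (Units.ext (by
    refine (coe_toGU _ _).trans ?_
    rw [Subgroup.coe_one, isoMat_one, toON_one hK hq]
    rfl))
  map_mul' x y := Subtype.ext (Units.ext (by
    refine (coe_toGU _ _).trans ?_
    simp only [Subgroup.coe_mul, Units.val_mul, coe_toGU, isoMat_mul hδ f s hs, toON_mul hK hq]))

theorem mat_toGUHom (hK : Fintype.card K = q ^ 2) (hq : Odd q) (hf : ∀ a, (f a) ^ q = f a)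
    (hsq : s ^ q = -s) (x : Gam hδ) :
    ((toGUHom hδ f s hs hK hq hf hsq x : Matrix.GeneralLinearGroup (Fin 2) K) :
      Matrix (Fin 2) (Fin 2) K) =
        toON hK (isoMat f s hs (x : (Quad δ)ˣ × Matrix.GeneralLinearGroup (Fin 2) F)) :=
  coe_toGU hK ((preserves_toON hK hq).2 (isoP_isoMat hδ f s hs hK hf hsq x))

theorem toGUHom_ker (hK : Fintype.card K = q ^ 2) (hq : Odd q) (hf : ∀ a, (f a) ^ q = f a)
    (hsq : s ^ q = -s) : (toGUHom hδ f s hs hK hq hf hsq).ker = (deltaHom hδ).range := by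
  have hne := s_ne hδ f s hs
  refine le_antisymm (fun x hx => ?_) ?_
  · have h1 : isoMat f s hs (x : (Quad δ)ˣ × Matrix.GeneralLinearGroup (Fin 2) F) = 1 := by
      have h2 := mat_toGUHom hδ f s hs hK hq hf hsq x
      rw [MonoidHom.mem_ker.1 hx] at h2
      rw [← toIso_toON hK hq (isoMat f s hs _), ← h2]
      exact (congrArg (toIso hK) (toON_one hK hq).symm).trans (toIso_toON hK hq 1)
    obtain ⟨⟨l, g⟩, hm⟩ := x
    simp only [isoMat, Matrix.one_fin_two, fin_two_inj, mul_eq_zero, inv_eq_zero, hne, or_false,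
      (l.isUnit.map (eps f s hs)).ne_zero, false_or, map_eq_zero] at h1
    obtain ⟨e00, e01, e10, e11⟩ := h1
    haveI : Fact (∀ r : F, r ^ 2 ≠ δ + 0 * r) := ⟨fun r hr => hδ ⟨r, by linear_combination -hr⟩⟩
    have ha : (g : Matrix (Fin 2) (Fin 2) F) 0 0 ≠ 0 := fun e => by
      rw [e, map_zero, mul_zero] at e00; exact zero_ne_one e00
    have he : (g : Matrix (Fin 2) (Fin 2) F) 1 1 = (g : Matrix (Fin 2) (Fin 2) F) 0 0 :=
      f.injective (mul_left_cancel₀ (l.isUnit.map (eps f s hs)).ne_zero (e11.trans e00.symm))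
    refine ⟨Units.mk0 _ ha, Subtype.ext (Prod.ext (Units.ext ((eps f s hs).injective ?_)) ?_)⟩
    · show eps f s hs ((scalUnit (Units.mk0 _ ha)⁻¹ : (Quad δ)ˣ) : Quad δ) = _
      rw [eps_scal, Units.val_inv_eq_inv_val, Units.val_mk0, map_inv₀]
      exact (eq_inv_of_mul_eq_one_left e00).symm
    · apply Linear.GL_ext_two <;> simp [coe_deltaHom, coe_scalarGL, e01, e10, he]
  · rintro _ ⟨a, rfl⟩
    refine MonoidHom.mem_ker.2 (Subtype.ext (Units.ext ?_))
    rw [mat_toGUHom]
    have : isoMat f s hs (deltaHom hδ a : (Quad δ)ˣ × Matrix.GeneralLinearGroup (Fin 2) F) = 1 := by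
      rw [coe_deltaHom]
      simp only [isoMat, eps_scal, coe_scalarGL, Units.val_inv_eq_inv_val, map_inv₀]
      have ha : f (a : F) ≠ 0 := (a.isUnit.map f).ne_zero
      simp [Matrix.one_fin_two, ha]
    rw [this, toON_one hK hq]
    rfl

theorem toGUHom_surjective (hF : Fintype.card F = q) (hK : Fintype.card K = q ^ 2) (hq : Odd q)
    (hf : ∀ a, (f a) ^ q = f a) (hsq : s ^ q = -s) :
    Function.Surjective (toGUHom hδ f s hs hK hq hf hsq) := by
  classical
  rw [← MonoidHom.range_eq_top]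
  refine Subgroup.eq_top_of_card_eq _ ?_
  haveI : Fintype (Quad δ)ˣ := Fintype.ofFinite _
  have hk : Nat.card (toGUHom hδ f s hs hK hq hf hsq).ker = q - 1 := by
    rw [toGUHom_ker, ← Nat.card_congr (MonoidHom.ofInjective (deltaHom_injective hδ)).toEquiv,
      Nat.card_eq_fintype_card, Fintype.card_units, hF]
  have hrel : Function.Surjective (relHom hδ) := fun a => by
    obtain ⟨l, hl⟩ := normHom_surjective hδ a
    exact ⟨(l, 1), by rw [← hl]; simp [relHom]⟩
  have hG : Nat.card (Gam hδ) * (q - 1) = (q ^ 2 - 1) * ((q ^ 2 - 1) * (q ^ 2 - q)) := by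
    have h := (Gam hδ).card_mul_index
    rw [Subgroup.index_ker, MonoidHom.range_eq_top.2 hrel, Subgroup.card_top, Nat.card_prod,
      card_quad hδ, Nat.card_eq_fintype_card (α := Fˣ), Fintype.card_units, hF,
      Matrix.card_GL_field, Fin.prod_univ_two, Fin.val_zero, Fin.val_one, pow_zero, pow_one, hF] at h
    exact h
  have hr := (toGUHom hδ f s hs hK hq hf hsq).ker.card_mul_index
  rw [Subgroup.index_ker, hk] at hr
  have h1 := two_le_q hK
  rw [card_GU hK 2, Finset.prod_range_succ, Finset.prod_range_one, guFactor, guFactor,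
    if_pos (by decide), if_neg (by decide)]
  refine Nat.eq_of_mul_eq_mul_left (show 0 < (q - 1) * (q - 1) by
    exact Nat.mul_pos (by omega) (by omega)) ?_
  rw [mul_assoc, hr, mul_comm, hG]
  have e1 : q ^ 2 - 1 = (q + 1) * (q - 1) := by simpa using Nat.sq_sub_sq q 1
  have e2 : q ^ 2 - q = q * (q - 1) := by rw [Nat.mul_sub, mul_one, pow_two]
  simp only [zero_add, pow_one, Nat.reduceMul, Nat.reduceSub, Nat.reduceDiv, show (1 + 1 : ℕ) = 2 from rfl,
    e1, e2]
  ring

/-- `GU₂(q)` has a cover. -/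
theorem exists_cover (hK : Fintype.card K = q ^ 2) (hq : Odd q) :
    ∃ (F : Type v) (_ : Field F) (_ : Fintype F) (_ : DecidableEq F) (δ : F) (hδ : ¬ IsSquare δ),
      Fintype.card F = q ∧ Nonempty (Cover hδ (Cfsg.GU 2 K q)) := by
  obtain ⟨F, iF, iT, iD, δ, f, s, hδ, hF, hf, hs, hsq⟩ := exists_sub hK hq
  exact ⟨F, iF, iT, iD, δ, hδ, hF, ⟨⟨toGUHom hδ f s hs hK hq hf hsq,
    toGUHom_surjective hδ f s hs hF hK hq hf hsq, toGUHom_ker hδ f s hs hK hq hf hsq⟩⟩⟩

end Cfsg.Agent.H36.GUTwo
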