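import Cfsg.Agent.H36.GUTwo.Block

/-!
# A group covered by `Gam` has the table with `Q = -q`
-/

set_option autoImplicit false
set_option linter.unusedSectionVars false
set_option linter.style.haveILetI false

namespace Cfsg.Agent.H36.GUTwo

open Matrix Finset Cfsg.Agent.H53 Cfsg.Agent.H3.SDOrder Cfsg.Agent.H36.TwoTori
open scoped Classical

universe v

variable {F : Type v} [Field F] [Fintype F] [DecidableEq F] [DecidableEq (MulChar F ℂ)] {δ : F}
  {hδ : ¬ IsSquare δ} [Fintype (Quad δ)ˣ] [Fintype (NOne hδ)]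

theorem neg_one_smul_fun {X : Type v} (f : X → ℂ) : (((-1 : ℤ) : ℂ)) • f = -f := by
  funext x
  simp

set_option maxHeartbeats 1000000 in
/-- The table of `GU₂(q)`. -/
noncomputable def guTable {H : Type v} [Group H] [Fintype H] (C : Cover hδ H) :
    Table H (NOne hδ) (Quad δ)ˣ (-(Fintype.card F : ℤ)) where
  σ := -1
  σ_pm := Or.inr rfl
  σ_Q := by have := Fintype.card_pos (α := F); omega
  odd_Q := ((Int.odd_coe_nat _).2 (odd_card hδ)).neg
  three_le := by
    have := Nat.odd_iff.1 (odd_card hδ)
    have := Fintype.one_lt_card (α := F)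
    omega
  cyclicA := by haveI := isCyclic_quad hδ; infer_instance
  cyclicB := isCyclic_quad hδ
  cardA := by rw [card_nOne hδ]; push_cast; ring
  cardB := by
    rw [card_quad hδ, Nat.cast_sub (Nat.one_le_pow _ _ Fintype.card_pos)]; simp
  incl := (NOne hδ).subtype
  norm := normA hδ
  incl_injective := Subtype.val_injective
  incl_norm y := by
    rw [_root_.zpow_add_one, zpow_neg_card hδ]
    exact (coe_normA hδ y).trans (by rw [div_eq_mul_inv, mul_comm])
  T := C.T
  S := C.S
  T_injective := C.T_injective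
  S_injective := C.S_injective
  S_incl := C.S_incl
  T_center := C.T_center
  center_le _ hx := C.center_le hx
  uni := C.uni
  uni_ne := C.uni_ne
  uni_pow := by rw [Int.natAbs_neg, Int.natAbs_natCast, C.uni_pow]
  swapT := C.swapT
  frobS y := by rw [zpow_neg_card hδ]; exact C.frobS y
  classes := C.classes
  sum_eq f hf := by convert C.sum_eq f hf
  lin := C.linF
  st := C.stF
  ps := C.psF
  cu := C.cuF
  irr_lin := C.irr_linF
  irr_st α := by rw [neg_one_smul_fun]; exact C.irr_stF α
  irr_ps α β h := by rw [neg_one_smul_fun]; exact C.irr_psF h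
  irr_cu θ h := by rw [neg_one_smul_fun]; exact C.irr_cuF h
  lin_centre := C.linF_centre
  lin_uni := C.linF_uni
  lin_T α a b _ := C.linF_T α a b
  lin_S α y _ := C.linF_S α y
  st_centre := C.stF_centre
  st_uni := C.stF_uni
  st_T := C.stF_T
  st_S := C.stF_S
  ps_centre := C.psF_centre
  ps_uni := C.psF_uni
  ps_T := C.psF_T
  ps_S := C.psF_S
  cu_centre := C.cuF_centre
  cu_uni := C.cuF_uni
  cu_T := C.cuF_T
  cu_S := C.cuF_S
  block M hM ψ := by
    simp only [neg_one_smul_fun]
    exact ⟨C.block_mp hM ψ, C.block_mpr hM ψ⟩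

/-- The determinant of a covered group. -/
noncomputable def Cover.det {H : Type v} [Group H] (C : Cover hδ H) : H →* NOne hδ :=
  C.π.liftOfRightInverse (Function.surjInv C.surj) (Function.rightInverse_surjInv C.surj)
    ⟨(normA hδ).comp ((MonoidHom.fst _ _).comp (Gam hδ).subtype), fun x hx => by
      obtain ⟨a, rfl⟩ := C.pi_eq_one.1 hx
      exact normA_scal hδ a⁻¹⟩

theorem Cover.det_pi {H : Type v} [Group H] (C : Cover hδ H) (x : Gam hδ) :
    C.det (C.π x) = normA hδ (x : (Quad δ)ˣ × Matrix.GeneralLinearGroup (Fin 2) F).1 :=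
  MonoidHom.liftOfRightInverse_comp_apply _ _ _ _ x

theorem Cover.det_T {H : Type v} [Group H] (C : Cover hδ H) (a b : NOne hδ) :
    C.det (C.T (a, b)) = a * b := by
  obtain ⟨x, hx⟩ := eig_surjective hδ (a, b)
  rw [← hx, C.T_eig, C.det_pi]
  exact (normA_fst x).trans (by rw [hx])

end Cfsg.Agent.H36.GUTwo
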