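import Cfsg.Agent.H36.GUTwo.Cover
import Cfsg.Agent.CharInduce.Gallagher

/-!
# Characters of a covered group from those of `GL₂(q)`
-/

set_option autoImplicit false
set_option linter.unusedSectionVars false
set_option linter.style.haveILetI false

namespace Cfsg.Agent.H36.GUTwo

open Matrix Finset Cfsg.Agent.H53 Cfsg.Agent.H3.SDOrder Cfsg.Agent.H36.TwoTori
open Cfsg.Agent.BlockBasic
open scoped ComplexConjugate

universe v

/-- An exponent projecting to the part of odd order. -/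
theorem exists_odd_exp (N : ℕ) (hN : N ≠ 0) : ∃ n : ℕ, ∀ (K : Type v) [Group K] (x : K),
    orderOf x ∣ N → Odd (orderOf (x ^ n)) ∧ (Odd (orderOf x) → x ^ n = x) := by
  obtain ⟨a, o, ho, rfl⟩ := Nat.exists_eq_two_pow_mul_odd hN
  have hco : Nat.Coprime (2 ^ a) o := Nat.Coprime.pow_left a (Nat.coprime_two_left.2 ho)
  obtain ⟨n, hn1, hn2⟩ := Nat.chineseRemainder hco 0 1
  refine ⟨n, fun K _ x hx => ⟨?_, fun hodd => ?_⟩⟩
  · refine ho.of_dvd_nat (orderOf_dvd_of_pow_eq_one ?_)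
    obtain ⟨k, hk⟩ := Nat.modEq_zero_iff_dvd.1 hn1
    obtain ⟨j, hj⟩ := hx
    rw [← pow_mul, hk, show 2 ^ a * k * o = 2 ^ a * o * k by ring, hj, pow_mul, pow_mul,
      pow_orderOf_eq_one, one_pow, one_pow]
  · have hd : orderOf x ∣ o :=
      (Nat.Coprime.pow_right a (Nat.coprime_two_right.2 hodd)).dvd_of_dvd_mul_left hx
    conv_rhs => rw [← pow_one x]
    exact pow_eq_pow_iff_modEq.2 (hn2.of_dvd hd)

/-- A character trivial on the kernel of a surjection descends. -/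
theorem isChar_descend {G K : Type v} [Group G] [Finite G] [Group K] (f : G →* K)
    (hf : Function.Surjective f) {χ : K → ℂ} (h : Cfsg.IsCharacter G (fun g => χ (f g))) :
    Cfsg.IsCharacter K χ := by
  obtain ⟨n, ρ, hρ⟩ := h
  have hk : ∀ g ∈ f.ker, ρ g = 1 := by
    intro g hg
    have e : ρ.character g = ρ.character 1 := by
      rw [congrFun hρ g, congrFun hρ 1, MonoidHom.mem_ker.1 hg, map_one]
    rwa [Representation.char_one, CharBasic.character_eq_finrank_iff] at e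
  have hw : ∀ a b, f a = f b → ρ a = ρ b := fun a b e => by
    have : b⁻¹ * a ∈ f.ker := by rw [MonoidHom.mem_ker, map_mul, map_inv, e, inv_mul_cancel]
    rw [show a = b * (b⁻¹ * a) by group, map_mul, hk _ this, mul_one]
  refine ⟨n, { toFun := fun k => ρ (Function.surjInv hf k)
               map_one' := (hw _ 1 (by rw [Function.surjInv_eq hf, map_one])).trans (map_one ρ)
               map_mul' := fun a b => (hw _ (Function.surjInv hf a * Function.surjInv hf b) (by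
                 rw [map_mul, Function.surjInv_eq hf, Function.surjInv_eq hf,
                   Function.surjInv_eq hf])).trans (map_mul ρ _ _) }, funext fun k => ?_⟩
  exact (congrFun hρ _).trans (congrArg χ (Function.surjInv_eq hf k))

variable {F : Type v} [Field F] [Fintype F] [DecidableEq F] {δ : F} {hδ : ¬ IsSquare δ}

local notation "G2" => Matrix.GeneralLinearGroup (Fin 2) F
local notation "M2" => Matrix (Fin 2) (Fin 2) F
local notation "Kx" => (Quad δ)ˣ

theorem ofUnit_norm (θ : Kx →* ℂˣ) [Finite (Quad δ)ˣ] (l : Kx) : (θ l : ℂ) * conj (θ l : ℂ) = 1 := by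
  rw [Complex.mul_conj', CharInduce.norm_hom θ l]
  simp

namespace Cover

variable {H : Type v} [Group H] (C : Cover hδ H)

/-- The rule on scalars. -/
def Scal (θ : Kx →* ℂˣ) (χ : G2 → ℂ) : Prop :=
  ∀ g a, χ (g * scalarGL a) = (θ (scalUnit a) : ℂ) * χ g

/-- The function `θ(l) χ(g)`. -/
noncomputable def chi (θ : Kx →* ℂˣ) (χ : G2 → ℂ) : H → ℂ := fun h =>
  (θ ((Function.surjInv C.surj h : Gam hδ) : Kx × G2).1 : ℂ) *
    χ ((Function.surjInv C.surj h : Gam hδ) : Kx × G2).2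

variable {θ : (Quad δ)ˣ →* ℂˣ} {χ : Matrix.GeneralLinearGroup (Fin 2) F → ℂ}

theorem chi_pi (hs : Scal θ χ) (x : Gam hδ) :
    C.chi θ χ (C.π x) = (θ (x : Kx × G2).1 : ℂ) * χ (x : Kx × G2).2 := by
  obtain ⟨a, ha⟩ := C.pi_eq_iff.1 (Function.surjInv_eq C.surj (C.π x)).symm
  rw [chi, ha]
  show (θ ((x : Kx × G2).1 * scalUnit a⁻¹) : ℂ) * χ ((x : Kx × G2).2 * scalarGL a) = _
  rw [hs, map_mul, map_inv, map_inv, Units.val_mul, mul_assoc, ← mul_assoc _ _ (χ _),
    ← Units.val_mul, inv_mul_cancel, Units.val_one, one_mul]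

theorem isClassFunction_chi (hs : Scal θ χ) (hχ : Cfsg.IsClassFunction G2 χ) :
    Cfsg.IsClassFunction H (C.chi θ χ) := by
  intro a b
  obtain ⟨x, rfl⟩ := C.surj a
  obtain ⟨y, rfl⟩ := C.surj b
  rw [← map_inv, ← map_mul, ← map_mul, C.chi_pi hs, C.chi_pi hs]
  show (θ ((y : Kx × G2).1 * (x : Kx × G2).1 * (y : Kx × G2).1⁻¹) : ℂ) *
    χ ((y : Kx × G2).2 * (x : Kx × G2).2 * (y : Kx × G2).2⁻¹) = _
  rw [hχ, mul_comm (y : Kx × G2).1, mul_inv_cancel_right]

theorem index_pi (x : Gam hδ) : (Subgroup.centralizer ({C.π x} : Set H)).index =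
    (Subgroup.centralizer ({(x : Kx × G2).2} : Set G2)).index := by
  set p : Gam hδ →* G2 := (MonoidHom.snd Kx G2).comp (Gam hδ).subtype
  have hp : Function.Surjective p := fun g => by
    obtain ⟨l, hl⟩ := exists_lift hδ g
    exact ⟨⟨_, hl⟩, rfl⟩
  rw [← Subgroup.index_comap_of_surjective _ C.surj, ← Subgroup.index_comap_of_surjective
    (Subgroup.centralizer ({(x : Kx × G2).2} : Set G2)) hp]
  congr 1
  ext y
  rw [Subgroup.mem_comap, Subgroup.mem_comap, Subgroup.mem_centralizer_singleton_iff,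
    Subgroup.mem_centralizer_singleton_iff, ← map_mul, ← map_mul, pi_eq_iff]
  constructor
  · rintro ⟨a, ha⟩
    have h1 : (x : Kx × G2).1 * (y : Kx × G2).1 =
        (y : Kx × G2).1 * (x : Kx × G2).1 * scalUnit a⁻¹ :=
      congrArg (fun z : Gam hδ => (z : Kx × G2).1) ha
    have h2 : (x : Kx × G2).2 * (y : Kx × G2).2 =
        (y : Kx × G2).2 * (x : Kx × G2).2 * scalarGL a :=
      congrArg (fun z : Gam hδ => (z : Kx × G2).2) ha
    rw [mul_comm (x : Kx × G2).1, left_eq_mul, map_inv, inv_eq_one,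
      map_eq_one_iff _ (scalUnit_injective (δ := δ))] at h1
    rw [h1, show (scalarGL 1 : G2) = 1 from map_one scalarHom, mul_one] at h2
    exact h2.symm
  · intro e
    refine ⟨1, ?_⟩
    rw [map_one, mul_one]
    exact Subtype.ext (Prod.ext (mul_comm _ _) e.symm)

theorem centralChar_chi (hs : Scal θ χ) (x : Gam hδ) :
    Cfsg.centralChar (C.chi θ χ) (C.π x) =
      (θ (x : Kx × G2).1 : ℂ) * Cfsg.centralChar χ (x : Kx × G2).2 := by
  have h1 : C.chi θ χ 1 = χ 1 := by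
    rw [← map_one C.π, C.chi_pi hs]
    show (θ 1 : ℂ) * χ 1 = χ 1
    rw [map_one, Units.val_one, one_mul]
  rw [Cfsg.centralChar, Cfsg.centralChar, C.index_pi, C.chi_pi hs, h1]
  ring

theorem T_eig_val (hs : Scal θ χ) (x : Dom hδ) : C.chi θ χ (C.T (eig hδ x)) =
    (θ (x : Kx × Kx).1 : ℂ) * χ (torusHom hδ (x : Kx × Kx).2) := by
  rw [C.T_eig, C.chi_pi hs]; rfl

theorem diag_val (hs : Scal θ χ) (e : NOne hδ) :
    C.chi θ χ (C.T (e, e)) = (θ (e : Kx) : ℂ) * χ 1 := by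
  rw [C.T_diag, C.chi_pi hs]

theorem uni_val (hs : Scal θ χ) (e : NOne hδ) :
    C.chi θ χ (C.T (e, e) * C.uni) = (θ (e : Kx) : ℂ) * χ uGL := by
  rw [C.T_diag_uni, C.chi_pi hs]

theorem S_val (hs : Scal θ χ) (y : Kx) : C.chi θ χ (C.S y) =
    (θ (conjUnit y)⁻¹ : ℂ) * χ (splitHom (normHom hδ y, 1)) := by
  rw [S, MonoidHom.comp_apply, C.chi_pi hs]; rfl

variable [Fintype (Quad δ)ˣ] [DecidableEq (MulChar F ℂ)] [Fintype H]

theorem classInner_chi {χ' : G2 → ℂ} (hs : Scal θ χ) (hs' : Scal θ χ') :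
    Cfsg.classInner (C.chi θ χ) (C.chi θ χ') = Cfsg.classInner χ χ' := by
  classical
  set p : Gam hδ →* G2 := (MonoidHom.snd Kx G2).comp (Gam hδ).subtype
  have hp : Function.Surjective p := fun g => by
    obtain ⟨l, hl⟩ := exists_lift hδ g
    exact ⟨⟨_, hl⟩, rfl⟩
  rw [← CharInduce.classInner_comp_surjective C.π C.surj,
    ← CharInduce.classInner_comp_surjective p hp χ χ']
  simp only [Cfsg.classInner, C.chi_pi hs, C.chi_pi hs']
  congr 1
  refine sum_congr rfl fun x _ => ?_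
  rw [map_mul, mul_mul_mul_comm, ofUnit_norm, one_mul]
  rfl

theorem isIrr_chi (hs : Scal θ χ) (hχ : Cfsg.IsIrrCharacter G2 χ) :
    Cfsg.IsIrrCharacter H (C.chi θ χ) := by
  refine CharInduce.isIrr_of_norm_one (isChar_descend C.π C.surj ?_) ?_
  · have h := CharInduce.IsChar.mul
      (CharInduce.IsChar.comp (CharInduce.isCharacter_hom θ)
        ((MonoidHom.fst Kx G2).comp (Gam hδ).subtype))
      (CharInduce.IsChar.comp (CharBasic.IsIrr.isCharacter hχ)
        ((MonoidHom.snd Kx G2).comp (Gam hδ).subtype))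
    convert h using 1
    exact funext fun x => C.chi_pi hs x
  · rw [C.classInner_chi hs hs, CharBasic.classInner_irr_self hχ]

/-- Two class functions agreeing on the four types are equal. -/
theorem ext_types {f g : H → ℂ} (hf : Cfsg.IsClassFunction H f) (hg : Cfsg.IsClassFunction H g)
    (h1 : ∀ e, f (C.T (e, e)) = g (C.T (e, e)))
    (h2 : ∀ e, f (C.T (e, e) * C.uni) = g (C.T (e, e) * C.uni))
    (h3 : ∀ a b, a ≠ b → f (C.T (a, b)) = g (C.T (a, b)))
    (h4 : ∀ y, y ∉ (NOne hδ).subtype.range → f (C.S y) = g (C.S y)) : f = g := by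
  funext h
  rcases C.classes h with ⟨e, rfl⟩ | ⟨e, hc⟩ | ⟨a, b, hab, hc⟩ | ⟨y, hy, hc⟩
  · exact h1 e
  all_goals obtain ⟨x, rfl⟩ := isConj_iff.1 hc
  · rw [hf, hg, h2]
  · rw [hf, hg, h3 a b hab]
  · rw [hf, hg, h4 y hy]

end Cover

variable [DecidableEq (MulChar F ℂ)]

/-- An irreducible character of `GL₂` satisfies the rule of its scalar character. -/
theorem scal_of_irr {χ : G2 → ℂ} (hχ : Cfsg.IsIrrCharacter G2 χ) {θ : Kx →* ℂˣ}
    (h : ∀ a, χ (scalarGL a) = (θ (scalUnit a) : ℂ) * χ 1) : Cover.Scal θ χ := by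
  obtain ⟨ω, hω⟩ := exists_scalar_char ⟨χ, hχ⟩
  intro g a
  have h1 : χ (1 * scalarGL a) = ω (a : F) * χ 1 := hω 1 a
  rw [one_mul, h a] at h1
  rw [mul_right_cancel₀ (BlockBasic.irr_one_ne_zero hχ) h1]
  exact hω g a

/-- Two class functions on `GL₂` agreeing on the four types are equal. -/
theorem gl_ext_types [Fintype (Quad δ)ˣ] (hδ : ¬ IsSquare δ) {f g : G2 → ℂ}
    (hf : Cfsg.IsClassFunction G2 f) (hg : Cfsg.IsClassFunction G2 g)
    (h1 : ∀ a, f (scalarGL a) = g (scalarGL a))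
    (h2 : ∀ a : Fˣ, f (upGL a a a) = g (upGL a a a))
    (h3 : ∀ a b : Fˣ, a ≠ b → f (splitHom (a, b)) = g (splitHom (a, b)))
    (h4 : ∀ z : Kx, (z : Quad δ).im ≠ 0 → f (torusHom hδ z) = g (torusHom hδ z)) : f = g := by
  funext h
  rcases gl_classes hδ h with ⟨e, rfl⟩ | ⟨e, hc⟩ | ⟨a, b, hab, hc⟩ | ⟨y, hy, hc⟩
  · rw [splitHom_diag]; exact h1 e
  all_goals obtain ⟨x, rfl⟩ := isConj_iff.1 hc
  · rw [hf, hg, splitHom_diag_uGL, h2]
  · rw [hf, hg, h3 a b hab]
  · rw [hf, hg, h4 y fun e => hy ((mem_range_scal hδ).2 e)]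

end Cfsg.Agent.H36.GUTwo
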